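/-
Commuting pairs of elementary abelian groups in groups of characteristic `2` and characteristic `p` type.
-/
import Cfsg.Prelude.Def_LocalEven
import Cfsg.Prelude.Def_Local
import Cfsg.Agent.Lib.Basic
import Cfsg.Agent.Lib.CoprimeGen
import Cfsg.Agent.Lib.CoprimeSeries
import Cfsg.Agent.Lib.SmallElements

set_option autoImplicit false

namespace CfsgLib.PairRank

open Cfsg
open scoped commutatorElement

universe u
variable {G : Type u} [Group G]

/-- Elementary abelian of exponent `q`. -/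
structure EA (q : ℕ) (A : Subgroup G) : Prop where
  comm : ∀ x ∈ A, ∀ y ∈ A, x * y = y * x
  pow : ∀ x ∈ A, x ^ q = 1

/-- Two subgroups commute elementwise. -/
def Cm (A B : Subgroup G) : Prop := ∀ a ∈ A, ∀ b ∈ B, a * b = b * a

theorem Cm.symm {A B : Subgroup G} (h : Cm A B) : Cm B A := fun b hb a ha => (h a ha b hb).symm

theorem Cm.mono {A B A' B' : Subgroup G} (h : Cm A B) (hA : A' ≤ A) (hB : B' ≤ B) : Cm A' B' :=
  fun a ha b hb => h a (hA ha) b (hB hb)

theorem cm_iff {A B : Subgroup G} : Cm A B ↔ A ≤ Subgroup.centralizer (B : Set G) :=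
  ⟨fun h a ha => Subgroup.mem_centralizer_iff.mpr fun b hb => (h a ha b hb).symm,
    fun h a ha b hb => (Subgroup.mem_centralizer_iff.mp (h ha) b hb).symm⟩

theorem comm_sup {A : Subgroup G} {x y : G} (hA : ∀ a ∈ A, a * y = y * a) (hx : x * y = y * x) :
    ∀ g ∈ A ⊔ Subgroup.zpowers x, g * y = y * g := by
  intro g hg
  have : A ⊔ Subgroup.zpowers x ≤ Subgroup.centralizer {y} :=
    sup_le (fun a ha => Subgroup.mem_centralizer_singleton_iff.mpr (hA a ha))
      (Subgroup.zpowers_le.mpr (Subgroup.mem_centralizer_singleton_iff.mpr hx))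
  exact Subgroup.mem_centralizer_singleton_iff.mp (this hg)

theorem EA.mono {q : ℕ} {A B : Subgroup G} (h : EA q B) (hAB : A ≤ B) : EA q A :=
  ⟨fun x hx y hy => h.comm x (hAB hx) y (hAB hy), fun x hx => h.pow x (hAB hx)⟩

theorem ea_bot (q : ℕ) : EA q (⊥ : Subgroup G) :=
  ⟨fun x hx y hy => by rw [Subgroup.mem_bot.mp hx, Subgroup.mem_bot.mp hy],
    fun x hx => by rw [Subgroup.mem_bot.mp hx, one_pow]⟩

theorem ea_zpowers {q : ℕ} {x : G} (hx : x ^ q = 1) : EA q (Subgroup.zpowers x) :=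
  ⟨fun a ⟨i, ha⟩ b ⟨j, hb⟩ => ha ▸ hb ▸ (Commute.zpow_zpow_self x i j).eq, fun a ⟨i, ha⟩ => by
    rw [← ha, ← zpow_natCast, ← zpow_mul, mul_comm, zpow_mul, zpow_natCast, hx, one_zpow]⟩

theorem exists_mul_zpow {A : Subgroup G} {x : G} (hx : ∀ a ∈ A, a * x = x * a) {g : G}
    (hg : g ∈ A ⊔ Subgroup.zpowers x) : ∃ a ∈ A, ∃ i : ℤ, g = a * x ^ i := by
  rw [sup_comm] at hg
  obtain ⟨w, hw, a, ha, rfl⟩ := CfsgLib.mem_sup_of_le_normalizer
    (A := A) (W := Subgroup.zpowers x) (fun a ha => Subgroup.centralizer_le_normalizer _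
      (Subgroup.mem_centralizer_iff.mpr fun z hz => by
        obtain ⟨i, rfl⟩ := hz; exact (Commute.zpow_right (hx a ha) i).eq.symm)) hg
  obtain ⟨i, rfl⟩ := hw
  exact ⟨a, ha, i, ((Commute.zpow_right (hx a ha) i).eq).symm⟩

variable [Finite G] {q : ℕ} [hq : Fact q.Prime]

theorem mem_of_zpow_mem {S : Subgroup G} {x : G} (hx : x ^ q = 1) {i : ℤ} (hi : x ^ i ≠ 1) (h : x ^ i ∈ S) :
    x ∈ S := by
  have hx1 : x ≠ 1 := fun e => hi (by rw [e, one_zpow])
  have ho := orderOf_eq_prime hx hx1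
  have hle : Subgroup.zpowers (x ^ i) ≤ Subgroup.zpowers x := Subgroup.zpowers_le.mpr ⟨i, rfl⟩
  have heq : Subgroup.zpowers (x ^ i) = Subgroup.zpowers x := by
    refine Subgroup.eq_of_le_of_card_ge hle ?_
    rw [Nat.card_zpowers, Nat.card_zpowers, ho]
    have hd : orderOf (x ^ i) ∣ q := orderOf_dvd_of_pow_eq_one (by
      rw [← zpow_natCast, ← zpow_mul, mul_comm, zpow_mul, zpow_natCast, hx, one_zpow])
    rcases (Nat.dvd_prime hq.out).mp hd with h1 | h1
    · exact absurd (orderOf_eq_one_iff.mp h1) hi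
    · exact h1.ge
  exact (Subgroup.zpowers_le.mpr h) (heq.symm ▸ Subgroup.mem_zpowers x)

theorem EA.isPGroup {A : Subgroup G} (h : EA q A) : IsPGroup q A := fun x =>
  ⟨1, Subtype.ext (by rw [pow_one]; exact h.pow x x.2)⟩

theorem EA.exists_card {A : Subgroup G} (h : EA q A) : ∃ k, Nat.card A = q ^ k :=
  IsPGroup.iff_card.mp h.isPGroup

theorem EA.extend {A : Subgroup G} (h : EA q A) {x : G} (hxq : x ^ q = 1) (hx : ∀ a ∈ A, a * x = x * a)
    (hnot : x ∉ A) : EA q (A ⊔ Subgroup.zpowers x) ∧ Nat.card ↥(A ⊔ Subgroup.zpowers x) = q * Nat.card A := by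
  have hx' : ∀ g ∈ A ⊔ Subgroup.zpowers x, g * x = x * g := comm_sup hx rfl
  have hea : EA q (A ⊔ Subgroup.zpowers x) := by
    refine ⟨fun g hg k hk => ?_, fun g hg => ?_⟩
    · obtain ⟨a, ha, i, rfl⟩ := exists_mul_zpow hx hk
      refine (Commute.mul_right ?_ (Commute.zpow_right (hx' g hg) i)).eq
      exact comm_sup (fun b hb => h.comm b hb a ha) (hx a ha).symm g hg
    · obtain ⟨a, ha, i, rfl⟩ := exists_mul_zpow hx hg
      rw [(Commute.zpow_right (hx a ha) i).mul_pow, h.pow a ha, one_mul, ← zpow_natCast, ← zpow_mul, mul_comm,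
        zpow_mul, zpow_natCast, hxq, one_zpow]
  refine ⟨hea, ?_⟩
  obtain ⟨k, hk⟩ := h.exists_card
  obtain ⟨l, hl⟩ := hea.exists_card
  have hlt : A < A ⊔ Subgroup.zpowers x :=
    lt_of_le_of_ne le_sup_left fun e => hnot (e ▸ Subgroup.mem_sup_right (Subgroup.mem_zpowers x))
  have h1 : Nat.card A < Nat.card ↥(A ⊔ Subgroup.zpowers x) := by
    by_contra h2
    exact hlt.ne (Subgroup.eq_of_le_of_card_ge hlt.le (not_lt.mp h2))
  let f : ↥A × ↥(Subgroup.zpowers x) → ↥(A ⊔ Subgroup.zpowers x) := fun w =>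
    ⟨(w.1 : G) * w.2, mul_mem (Subgroup.mem_sup_left w.1.2) (Subgroup.mem_sup_right w.2.2)⟩
  have hf : Function.Surjective f := by
    rintro ⟨g, hg⟩
    obtain ⟨a, ha, i, rfl⟩ := exists_mul_zpow hx hg
    exact ⟨(⟨a, ha⟩, ⟨x ^ i, ⟨i, rfl⟩⟩), rfl⟩
  have h2 := Nat.card_le_card_of_surjective f hf
  rw [Nat.card_prod, Nat.card_zpowers] at h2
  have h3 : orderOf x ≤ q := orderOf_le_of_pow_eq_one hq.out.pos hxq
  have h4 : q ^ l ≤ q ^ (k + 1) := by
    rw [← hl, pow_succ, ← hk]; exact h2.trans (Nat.mul_le_mul_left _ h3)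
  rw [hk, hl] at h1
  have h5 := (Nat.pow_le_pow_iff_right hq.out.one_lt).mp h4
  have h6 := (Nat.pow_lt_pow_iff_right hq.out.one_lt).mp h1
  rw [hl, hk, show l = k + 1 by omega, pow_succ']

theorem hyp_decomp {E H : Subgroup G} (hE : EA q E) (hH : H ≤ E) (hc : Nat.card H * q = Nat.card E) {r : G}
    (hr : r ∈ E) (hrH : r ∉ H) {g : G} (hg : g ∈ E) : ∃ h ∈ H, ∃ i : ℤ, g = h * r ^ i := by
  have hcomm : ∀ a ∈ H, a * r = r * a := fun a ha => hE.comm a (hH ha) r hr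
  obtain ⟨-, hcard⟩ := (hE.mono hH).extend (hE.pow r hr) hcomm hrH
  have he : H ⊔ Subgroup.zpowers r = E := Subgroup.eq_of_le_of_card_ge
    (sup_le hH (Subgroup.zpowers_le.mpr hr)) (by rw [hcard, ← hc, mul_comm])
  exact exists_mul_zpow hcomm (he.symm ▸ hg)

/-- Generation by centralisers of hyperplanes. -/
theorem exists_hyp {E K L : Subgroup G} (hE : EA q E) (hE1 : E ≠ ⊥) (hEK : E ≤ Subgroup.normalizer (K : Set G))
    (hcop : (Nat.card E).Coprime (Nat.card K)) (hL : K ⊓ Subgroup.centralizer (E : Set G) ≤ L) (hK : ¬ K ≤ L) :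
    ∃ H ≤ E, Nat.card H * q = Nat.card E ∧ ¬ K ⊓ Subgroup.centralizer (H : Set G) ≤ L := by
  let T : Set (Subgroup G) := {H | H ≤ E ∧ ¬ K ⊓ Subgroup.centralizer (H : Set G) ≤ L}
  have hT : (⊥ : Subgroup G) ∈ T := ⟨bot_le, fun h => hK fun x hx => h ⟨hx, Subgroup.mem_centralizer_iff.mpr
    fun y hy => by rw [Subgroup.mem_bot.mp hy, one_mul, mul_one]⟩⟩
  obtain ⟨H, hH⟩ := (Set.toFinite T).exists_maximal ⟨⊥, hT⟩
  obtain ⟨hHE, hHL⟩ := hH.prop
  refine ⟨H, hHE, ?_, hHL⟩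
  obtain ⟨k, hk⟩ := (hE.mono hHE).exists_card
  obtain ⟨x, hxE, hxH⟩ : ∃ x ∈ E, x ∉ H := by
    by_contra hno
    push Not at hno
    exact hHL (le_antisymm hno hHE ▸ hL)
  obtain ⟨hS, hSc⟩ := (hE.mono hHE).extend (hE.pow x hxE) (fun a ha => hE.comm a (hHE ha) x hxE) hxH
  by_contra hne
  obtain ⟨y, hyE, hyS⟩ : ∃ y ∈ E, y ∉ H ⊔ Subgroup.zpowers x := by
    by_contra hno
    push Not at hno
    refine hne ?_
    rw [le_antisymm hno (sup_le hHE (Subgroup.zpowers_le.mpr hxE)), hSc, mul_comm]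
  have hyx : y ∉ Subgroup.zpowers x := fun h => hyS (Subgroup.mem_sup_right h)
  obtain ⟨hB, hBc⟩ := (ea_zpowers (hE.pow x hxE)).extend (hE.pow y hyE)
    (fun a ha => hE.comm a (Subgroup.zpowers_le.mpr hxE ha) y hyE) hyx
  set B := Subgroup.zpowers x ⊔ Subgroup.zpowers y
  haveI : IsMulCommutative B := ⟨⟨fun a b => Subtype.ext (hB.comm a a.2 b b.2)⟩⟩
  have hx1 : x ≠ 1 := fun h => hxH (h ▸ one_mem _)
  have hBnc : ¬ IsCyclic B := by
    intro hc
    have h1 : Monoid.exponent B ∣ q := Monoid.exponent_dvd_of_forall_pow_eq_one fun a => Subtype.ext (hB.pow a a.2)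
    rw [IsCyclic.exponent_eq_card, hBc, Nat.card_zpowers, orderOf_eq_prime (hE.pow x hxE) hx1] at h1
    have := Nat.le_of_dvd hq.out.pos h1
    nlinarith [hq.out.two_le]
  have hBE : B ≤ E := sup_le (Subgroup.zpowers_le.mpr hxE) (Subgroup.zpowers_le.mpr hyE)
  have hBK : B ≤ Subgroup.normalizer ((K ⊓ Subgroup.centralizer (H : Set G) : Subgroup G) : Set G) := by
    intro b hb
    refine Subgroup.mem_normalizer_iff.mpr fun w => ?_
    have hbC : b ∈ Subgroup.normalizer ((Subgroup.centralizer (H : Set G) : Subgroup G) : Set G) :=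
      Subgroup.le_normalizer (Subgroup.mem_centralizer_iff.mpr fun h hh => hE.comm h (hHE hh) b (hBE hb))
    rw [Subgroup.mem_inf, Subgroup.mem_inf, Subgroup.mem_normalizer_iff.mp (hEK (hBE hb)) w,
      Subgroup.mem_normalizer_iff.mp hbC w]
  have hgen := CfsgLib.coprime_generated_by_centralizers hBnc hBK
    (Nat.Coprime.coprime_dvd_right (Subgroup.card_dvd_of_le inf_le_left)
      (Nat.Coprime.coprime_dvd_left (Subgroup.card_dvd_of_le hBE) hcop))
  refine hHL (hgen.ge.trans (iSup₂_le fun b hb => ?_))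
  obtain ⟨hbB, hb1⟩ := hb
  by_contra hbL
  have hbH : b ∈ H := by
    by_contra hbH
    have hmem : H ⊔ Subgroup.zpowers b ∈ T := by
      refine ⟨sup_le hHE (Subgroup.zpowers_le.mpr (hBE hbB)), fun h => hbL (le_trans ?_ h)⟩
      intro w hw
      refine ⟨hw.1.1, Subgroup.mem_centralizer_iff.mpr fun g hg => ?_⟩
      refine comm_sup (fun a ha => Subgroup.mem_centralizer_iff.mp hw.1.2 a ha) ?_ g hg
      exact (Subgroup.mem_centralizer_singleton_iff.mp hw.2).symm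
    exact hbH (hH.le_of_ge hmem le_sup_left (Subgroup.mem_sup_right (Subgroup.mem_zpowers b)))
  obtain ⟨a, ⟨i, rfl⟩, j, rfl⟩ := exists_mul_zpow (fun a ha => hE.comm a (Subgroup.zpowers_le.mpr hxE ha) y hyE) hbB
  have hyj : y ^ j = 1 := by
    by_contra hyj
    have : y ^ j ∈ H ⊔ Subgroup.zpowers x := by
      have h1 : y ^ j = (x ^ i)⁻¹ * (x ^ i * y ^ j) := by group
      rw [h1]
      exact mul_mem (inv_mem (Subgroup.mem_sup_right ⟨i, rfl⟩)) (Subgroup.mem_sup_left hbH)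
    exact hyS (mem_of_zpow_mem (hE.pow y hyE) hyj this)
  rw [hyj, mul_one] at hbH hb1
  exact hxH (mem_of_zpow_mem (hE.pow x hxE) hb1 hbH)

end CfsgLib.PairRank
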