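/-
Trading rank between commuting `2`- and `p`-subgroups.
-/
import Cfsg.Agent.Lib.PairRank.Basic

set_option autoImplicit false

namespace CfsgLib.PairRank

open Cfsg
open scoped commutatorElement

universe u
variable {G : Type u} [Group G]

/-- `O_p` of the normaliser of a subgroup. -/
noncomputable def opN (p : ℕ) (T : Subgroup G) : Subgroup G :=
  (Cfsg.pCore p ↥(Subgroup.normalizer (T : Set G))).map (Subgroup.normalizer (T : Set G)).subtype

variable [Finite G]

theorem opN_le {p : ℕ} {T : Subgroup G} : opN p T ≤ Subgroup.normalizer (T : Set G) := Subgroup.map_subtype_le _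

theorem opN_isPGroup {p : ℕ} [Fact p.Prime] {T : Subgroup G} : IsPGroup p (opN p T) :=
  (CfsgLib.isPGroup_pCore p).map _

theorem normalizer_le_opN {p : ℕ} [Fact p.Prime] {T : Subgroup G} :
    Subgroup.normalizer (T : Set G) ≤ Subgroup.normalizer (opN p T : Set G) := by
  haveI : (Cfsg.pCore p ↥(Subgroup.normalizer (T : Set G))).Normal :=
    (CfsgLib.sSup_prop_of_closed_sup (fun A : Subgroup ↥(Subgroup.normalizer (T : Set G)) => A.Normal ∧ IsPGroup p A)
    ⟨inferInstance, IsPGroup.of_bot⟩ (fun _ _ h₁ h₂ => CfsgLib.pCore_mem_sup p h₁ h₂)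
    (S := {N | N.Normal ∧ IsPGroup p N}) (fun _ h => h)).1
  intro g hg
  refine Subgroup.mem_normalizer_iff.mpr fun x => ⟨?_, ?_⟩
  · rintro ⟨y, hy, rfl⟩
    exact ⟨⟨g, hg⟩ * y * ⟨g, hg⟩⁻¹, ‹(Cfsg.pCore p _).Normal›.conj_mem y hy _, rfl⟩
  · rintro ⟨y, hy, e⟩
    refine ⟨⟨g, hg⟩⁻¹ * y * ⟨g, hg⟩, ?_, ?_⟩
    · simpa using ‹(Cfsg.pCore p _).Normal›.conj_mem y hy (⟨g, hg⟩⁻¹)
    · have e' : (y : G) = g * x * g⁻¹ := e
      show g⁻¹ * (y : G) * g = x
      rw [e']; group

theorem le_opN {p : ℕ} [Fact p.Prime] {T : Subgroup G} (hT : IsPGroup p T) : T ≤ opN p T := by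
  have hle : T ≤ Subgroup.normalizer (T : Set G) := Subgroup.le_normalizer
  haveI : (T.subgroupOf (Subgroup.normalizer (T : Set G))).Normal := Subgroup.normal_in_normalizer
  have h := CfsgLib.le_pCore (p := p) (N := T.subgroupOf (Subgroup.normalizer (T : Set G)))
    (hT.of_equiv (Subgroup.subgroupOfEquivOfLe hle).symm)
  intro x hx
  exact ⟨⟨x, hle hx⟩, h (Subgroup.mem_subgroupOf.mpr hx), rfl⟩

variable {p : ℕ} [hp : Fact p.Prime]

/-- Local characteristic: the centraliser of `O_p` inside a local subgroup. -/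
theorem mem_opN_of_cent {q : ℕ} [Fact q.Prime] {T : Subgroup G}
    (hchar : Subgroup.centralizer (Cfsg.pCore q ↥(Subgroup.normalizer (T : Set G)) : Set ↥(Subgroup.normalizer (T : Set G))) ≤
        Cfsg.pCore q ↥(Subgroup.normalizer (T : Set G)))
    {x : G} (hx : x ∈ Subgroup.normalizer (T : Set G)) (hc : ∀ y ∈ opN q T, x * y = y * x) : x ∈ opN q T := by
  refine ⟨⟨x, hx⟩, hchar (Subgroup.mem_centralizer_iff.mpr fun y hy => Subtype.ext ?_), rfl⟩
  exact (hc y ⟨y, hy, rfl⟩).symm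

theorem eq_one_of_coprime {q : ℕ} {P : Subgroup G} (hP : IsPGroup q P) {x : G} (hx : x ∈ P)
    (hcop : (orderOf x).Coprime q) : x = 1 := by
  obtain ⟨k, hk⟩ := hP ⟨x, hx⟩
  have hk' : x ^ q ^ k = 1 := congrArg Subtype.val hk
  exact orderOf_eq_one_iff.mp (Nat.eq_one_of_dvd_coprimes (Nat.Coprime.pow_right k hcop) dvd_rfl
    (orderOf_dvd_of_pow_eq_one hk'))

/-- In local characteristic `p`, a `p'`-element commuting with `A` and with `C_{O_p N(A)}(A)` is trivial. -/
theorem faithful_local (hG : Cfsg.IsOfLocalCharacteristic p G) {A : Subgroup G} (hA : IsPGroup p A) (hA1 : A ≠ ⊥)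
    {x : G} (hcop : (orderOf x).Coprime p) (hxA : ∀ a ∈ A, x * a = a * x)
    (hxP : ∀ y ∈ opN p A ⊓ Subgroup.centralizer (A : Set G), x * y = y * x) : x = 1 := by
  have hxN : x ∈ Subgroup.normalizer (A : Set G) := Subgroup.centralizer_le_normalizer _
    (Subgroup.mem_centralizer_iff.mpr fun a ha => (hxA a ha).symm)
  have h := CfsgLib.Stabilizer.thompson_axb (opN_isPGroup (T := A)) hA (Subgroup.le_normalizer.trans normalizer_le_opN) hcop
    (normalizer_le_opN hxN) hxA hxP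
  exact eq_one_of_coprime opN_isPGroup (mem_opN_of_cent (hG.2 A hA hA1) hxN h) hcop

theorem centralizer_le_normalizer_inf {A : Subgroup G} :
    Subgroup.centralizer (A : Set G) ≤
      Subgroup.normalizer ((opN p A ⊓ Subgroup.centralizer (A : Set G) : Subgroup G) : Set G) := by
  intro c hc
  refine Subgroup.mem_normalizer_iff.mpr fun w => ?_
  rw [Subgroup.mem_inf, Subgroup.mem_inf, Subgroup.mem_normalizer_iff.mp (normalizer_le_opN (p := p) (Subgroup.centralizer_le_normalizer _ hc)) w,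
    Subgroup.mem_normalizer_iff.mp (Subgroup.le_normalizer hc) w]

/-- A class two, exponent `p` subgroup detecting all coprime operators. -/
theorem exists_detect (hp2 : p ≠ 2) {P : Subgroup G} (hP : IsPGroup p P) :
    ∃ D ≤ P, Subgroup.normalizer (P : Set G) ≤ Subgroup.normalizer (D : Set G) ∧ (∀ d ∈ D, d ^ p = 1) ∧
      (∀ a ∈ D, ∀ b ∈ D, ∀ c ∈ D, ⁅a, b⁆ * c = c * ⁅a, b⁆) ∧
      ∀ x ∈ Subgroup.normalizer (P : Set G), (orderOf x).Coprime p → (∀ d ∈ D, x * d = d * x) → ∀ y ∈ P, x * y = y * x := by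
  obtain ⟨C, hch, hcom, hpow, hcen⟩ := CfsgLib.Small.exists_critical hP
  have hsm : CfsgLib.Small.smallExp p = p := if_neg hp2
  have hcc : ∀ u ∈ C, ∀ v ∈ C, ∀ w ∈ C, Commute ⁅u, v⁆ w := fun u _ v hv w hw =>
    (Subgroup.mem_centralizer_iff.mp (hcom u v hv).2 w hw).symm
  have hdv : p ∣ p.choose 2 := by
    have := CfsgLib.Small.dvd_choose_smallExp (p := p)
    rwa [hsm] at this
  let D0 : Subgroup ↥P :=
    { carrier := {x | x ∈ C ∧ x ^ p = 1}
      one_mem' := ⟨one_mem _, one_pow _⟩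
      mul_mem' := fun {a b} ha hb => ⟨mul_mem ha.1 hb.1, by
        rw [CfsgLib.Small.mul_pow_of_central ha.1 hb.1 hcc
          (fun u hu w hw => (Subgroup.mem_centralizer_iff.mp (hpow u hu).2 w hw).symm) hdv, ha.2, hb.2, one_mul]⟩
      inv_mem' := fun {a} ha => ⟨inv_mem ha.1, by rw [inv_pow, ha.2, inv_one]⟩ }
  haveI : D0.Characteristic := by
    rw [Subgroup.characteristic_iff_map_le]
    rintro e _ ⟨x, ⟨hx, hx'⟩, rfl⟩
    exact ⟨CfsgLib.Small.apply_mem_of_char e hx, by show (e x) ^ p = 1; rw [← map_pow, hx', map_one]⟩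
  refine ⟨D0.map P.subtype, Subgroup.map_subtype_le _, (CfsgLib.le_normalizer_map_characteristic le_rfl D0).1,
    ?_, ?_, fun x hx hcop h y hy => ?_⟩
  · rintro _ ⟨d, hd, rfl⟩
    exact congrArg Subtype.val hd.2
  · rintro _ ⟨a, ha, rfl⟩ _ ⟨b, hb, rfl⟩ _ ⟨c, hc, rfl⟩
    exact congrArg Subtype.val (hcc a ha.1 b hb.1 c hc.1).eq
  · set α : MulAut ↥P := Subgroup.normalizerMonoidHom P ⟨x, hx⟩
    have hα : (orderOf α).Coprime p := by
      refine hcop.coprime_dvd_left ((orderOf_map_dvd _ _).trans ?_)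
      rw [Subgroup.orderOf_mk]
    have h1 : α = 1 := CfsgLib.Small.eq_one_of_fixes_critical hP hcom hpow hcen hα fun c hc hc1 => by
      rw [hsm] at hc1
      refine Subtype.ext ?_
      show x * (c : G) * x⁻¹ = c
      rw [h c ⟨c, ⟨hc, hc1⟩, rfl⟩, mul_inv_cancel_right]
    have h2 : x * y * x⁻¹ = y := congrArg Subtype.val (DFunLike.congr_fun h1 (⟨y, hy⟩ : ↥P))
    calc x * y = x * y * x⁻¹ * x := by group
      _ = y * x := by rw [h2]

/-- Trading one rank of a `2`-group against one rank of a `p`-group. -/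
theorem trade (hp2 : p ≠ 2) (hG : Cfsg.IsOfLocalCharacteristic p G) {A U : Subgroup G} (hA : EA p A) (hA1 : A ≠ ⊥)
    (hU : EA 2 U) (hU1 : U ≠ ⊥) (hc : Cm A U) :
    ∃ H ≤ U, Nat.card H * 2 = Nat.card U ∧
      ∃ A', A ≤ A' ∧ EA p A' ∧ Nat.card A' = p * Nat.card A ∧ Cm A' H := by
  haveI : Fact (Nat.Prime 2) := ⟨Nat.prime_two⟩
  set P := opN p A ⊓ Subgroup.centralizer (A : Set G) with hP
  have hPp : IsPGroup p P := opN_isPGroup.to_le inf_le_left
  obtain ⟨D, hDP, hDN, hDp, -, hDf⟩ := exists_detect hp2 hPp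
  have hUN : U ≤ Subgroup.normalizer (P : Set G) := (cm_iff.mp hc.symm).trans centralizer_le_normalizer_inf
  have hcopp : ∀ u ∈ U, (orderOf u).Coprime p := fun u hu => Nat.Coprime.coprime_dvd_left
    (orderOf_dvd_of_pow_eq_one (hU.pow u hu)) ((Nat.coprime_primes Nat.prime_two hp.out).mpr hp2.symm)
  have hnot : ¬ D ≤ Subgroup.centralizer (U : Set G) := by
    intro hle
    refine hU1 ((Subgroup.eq_bot_iff_forall _).mpr fun u hu => ?_)
    refine faithful_local hG hA.isPGroup hA1 (hcopp u hu) (fun a ha => (hc a ha u hu).symm) ?_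
    exact hDf u (hUN hu) (hcopp u hu) fun d hd => Subgroup.mem_centralizer_iff.mp (hle hd) u hu
  have hcard : (Nat.card U).Coprime (Nat.card D) := by
    obtain ⟨i, hi⟩ := hU.exists_card
    obtain ⟨j, hj⟩ := IsPGroup.iff_card.mp (hPp.to_le hDP)
    rw [hi, hj]
    exact Nat.Coprime.pow _ _ ((Nat.coprime_primes Nat.prime_two hp.out).mpr hp2.symm)
  obtain ⟨H, hHU, hHc, hH⟩ := exists_hyp hU hU1 (hUN.trans hDN) hcard inf_le_right hnot
  obtain ⟨y, ⟨hyD, hyH⟩, hyU⟩ := SetLike.not_le_iff_exists.mp hH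
  refine ⟨H, hHU, hHc, A ⊔ Subgroup.zpowers y, le_sup_left, ?_⟩
  have hyA : ∀ a ∈ A, a * y = y * a := Subgroup.mem_centralizer_iff.mp (hDP hyD).2
  have hynot : y ∉ A := fun hy => hyU (cm_iff.mp hc hy)
  obtain ⟨h1, h2⟩ := hA.extend (hDp y hyD) hyA hynot
  exact ⟨h1, h2, fun g hg h hh => comm_sup (fun a ha => hc a ha h (hHU hh))
    (Subgroup.mem_centralizer_iff.mp hyH h hh).symm g hg⟩

/-- `G` has no involution centralised by an elementary abelian `p`-group of order above `p ^ n`. -/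
def RankBound (p : ℕ) (G : Type u) [Group G] (n : ℕ) : Prop :=
  ∀ z : G, z ^ 2 = 1 → z ≠ 1 → ∀ A : Subgroup G, EA p A → (∀ a ∈ A, a * z = z * a) → Nat.card A ≤ p ^ n

/-- Commuting pairs have total rank at most `n + 1`. -/
theorem bound (hp2 : p ≠ 2) (hG : Cfsg.IsOfLocalCharacteristic p G) {n : ℕ} (hn : RankBound p G n) :
    ∀ {i j : ℕ} {A U : Subgroup G}, EA p A → EA 2 U → Cm A U → Nat.card A = p ^ i → Nat.card U = 2 ^ j →
      1 ≤ i → 1 ≤ j → i + j ≤ n + 1 := by
  intro i j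
  induction j generalizing i with
  | zero => intros; omega
  | succ j ih =>
    intro A U hA hU hc hi hj h1 _
    rcases Nat.eq_zero_or_pos j with rfl | hj0
    · obtain ⟨z, hzU, hz1⟩ : ∃ z ∈ U, z ≠ 1 := by
        by_contra hno
        push Not at hno
        rw [show U = ⊥ from (Subgroup.eq_bot_iff_forall _).mpr hno, Subgroup.card_bot] at hj
        omega
      have := hn z (hU.pow z hzU) hz1 A hA (fun a ha => hc a ha z hzU)
      rw [hi] at this
      have := (Nat.pow_le_pow_iff_right hp.out.one_lt).mp this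
      omega
    · have hA1 : A ≠ ⊥ := fun h => by
        rw [h, Subgroup.card_bot] at hi
        have := Nat.one_lt_pow (by omega : i ≠ 0) hp.out.one_lt
        omega
      have hU1 : U ≠ ⊥ := fun h => by
        rw [h, Subgroup.card_bot] at hj
        have := Nat.one_lt_pow (by omega : j + 1 ≠ 0) (by norm_num : 1 < 2)
        omega
      obtain ⟨H, hHU, hHc, A', -, hA', hA'c, hcm⟩ := trade hp2 hG hA hA1 hU hU1 hc
      have := ih hA' (hU.mono hHU) hcm (i := i + 1) (by rw [hA'c, hi, pow_succ'])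
        (by rw [hj, pow_succ] at hHc; omega) (by omega) hj0
      omega

end CfsgLib.PairRank
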