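/-
The structure of `O_2` of an involution centraliser containing a `p`-group of maximal rank.
-/
import Cfsg.Agent.Lib.PairRank.Local
import Mathlib.GroupTheory.Nilpotent

set_option autoImplicit false

namespace CfsgLib.PairRank

open Cfsg
open scoped commutatorElement

universe u
variable {G : Type u} [Group G] [Finite G] {p : ℕ} [hp : Fact p.Prime]

/-- An involution with an elementary abelian `p`-group of maximal rank in its centraliser. -/
structure Ctx (p n : ℕ) (z : G) (E : Subgroup G) : Prop where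
  ne_two : p ≠ 2
  loc : Cfsg.IsOfLocalCharacteristic p G
  two : Cfsg.IsCharacteristicTwoType G
  bound : RankBound p G n
  three : 3 ≤ n
  ea : EA p E
  card : Nat.card E = p ^ n
  sq : z ^ 2 = 1
  ne_one : z ≠ 1
  cm : ∀ e ∈ E, e * z = z * e

/-- `O_2` of the centraliser of an involution. -/
noncomputable def OT (z : G) : Subgroup G := opN 2 (Subgroup.zpowers z)

theorem ea_z {z : G} (h : z ^ 2 = 1) : EA 2 (Subgroup.zpowers z) := ea_zpowers h

theorem card_z {z : G} (h : z ^ 2 = 1) (h1 : z ≠ 1) : Nat.card (Subgroup.zpowers z) = 2 := by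
  haveI : Fact (Nat.Prime 2) := ⟨Nat.prime_two⟩
  rw [Nat.card_zpowers, orderOf_eq_prime h h1]

theorem mem_z {z x : G} (h : z ^ 2 = 1) (hx : x ∈ Subgroup.zpowers z) : x = 1 ∨ x = z := by
  obtain ⟨i, rfl⟩ := hx
  rcases Int.even_or_odd i with ⟨k, hk⟩ | ⟨k, hk⟩
  · left; show z ^ i = 1; rw [hk, ← two_mul, zpow_mul, zpow_ofNat, h, one_zpow]
  · right; show z ^ i = z; rw [hk, zpow_add, zpow_mul, zpow_ofNat, h, one_zpow, one_mul, zpow_one]

theorem normalizer_z {z : G} (h : z ^ 2 = 1) (h1 : z ≠ 1) {x : G} :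
    x ∈ Subgroup.normalizer (Subgroup.zpowers z : Set G) ↔ x * z = z * x := by
  constructor
  · intro hx
    rcases mem_z h ((Subgroup.mem_normalizer_iff.mp hx z).mp (Subgroup.mem_zpowers z)) with e | e
    · exact absurd (conj_eq_one_iff.mp e) h1
    · calc x * z = x * z * x⁻¹ * x := by group
        _ = z * x := by rw [e]
  · intro hx
    exact Subgroup.centralizer_le_normalizer _ (Subgroup.mem_centralizer_iff.mpr fun y hy => by
      obtain ⟨i, rfl⟩ := hy; exact (Commute.zpow_right (show Commute x z from hx) i).eq.symm)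

theorem OT_isPGroup (z : G) : IsPGroup 2 (OT z) := by
  haveI : Fact (Nat.Prime 2) := ⟨Nat.prime_two⟩
  exact opN_isPGroup

theorem OT_comm {z q : G} (h : z ^ 2 = 1) (h1 : z ≠ 1) (hq : q ∈ OT z) : q * z = z * q :=
  (normalizer_z h h1).mp (opN_le hq)

theorem self_mem_OT {z : G} (h : z ^ 2 = 1) : z ∈ OT z := by
  haveI : Fact (Nat.Prime 2) := ⟨Nat.prime_two⟩
  exact le_opN (ea_z h).isPGroup (Subgroup.mem_zpowers z)

theorem norm_OT {z x : G} (h : z ^ 2 = 1) (h1 : z ≠ 1) (hx : x * z = z * x) :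
    x ∈ Subgroup.normalizer (OT z : Set G) := by
  haveI : Fact (Nat.Prime 2) := ⟨Nat.prime_two⟩
  exact normalizer_le_opN ((normalizer_z h h1).mpr hx)

theorem faithful_OT (hG : Cfsg.IsCharacteristicTwoType G) {z x : G} (h : z ^ 2 = 1) (h1 : z ≠ 1)
    (hx : x * z = z * x) (hcop : (orderOf x).Coprime 2) (hc : ∀ q ∈ OT z, x * q = q * x) : x = 1 := by
  haveI : Fact (Nat.Prime 2) := ⟨Nat.prime_two⟩
  exact eq_one_of_coprime (OT_isPGroup z) (mem_opN_of_cent
    (hG.2 _ (ea_z h).isPGroup (fun e => h1 (Subgroup.zpowers_eq_bot.mp e))) ((normalizer_z h h1).mpr hx) hc) hcop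

namespace Ctx

variable {n : ℕ} {z : G} {E : Subgroup G} (C : Ctx p n z E)
include C

omit hp in
theorem norm : E ≤ Subgroup.normalizer (OT z : Set G) := fun e he => norm_OT C.sq C.ne_one (C.cm e he)

theorem coprime_two {e : G} (he : e ∈ E) : (orderOf e).Coprime 2 :=
  Nat.Coprime.coprime_dvd_left (orderOf_dvd_of_pow_eq_one (C.ea.pow e he))
    ((Nat.coprime_primes hp.out Nat.prime_two).mpr C.ne_two)

theorem coprime_sub {K : Subgroup G} (hK : IsPGroup 2 K) : (Nat.card E).Coprime (Nat.card K) := by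
  haveI : Fact (Nat.Prime 2) := ⟨Nat.prime_two⟩
  obtain ⟨j, hj⟩ := IsPGroup.iff_card.mp hK
  rw [C.card, hj]
  exact Nat.Coprime.pow _ _ ((Nat.coprime_primes hp.out Nat.prime_two).mpr C.ne_two)

/-- An elementary abelian subgroup commuting with `E` has order at most two. -/
theorem small_cm {W : Subgroup G} (hW : EA 2 W) (hc : Cm E W) : Nat.card W ≤ 2 := by
  haveI : Fact (Nat.Prime 2) := ⟨Nat.prime_two⟩
  obtain ⟨j, hj⟩ := hW.exists_card
  rcases Nat.eq_zero_or_pos j with rfl | hj0
  · rw [hj]; norm_num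
  have := CfsgLib.PairRank.bound C.ne_two C.loc C.bound C.ea hW hc C.card hj (by have := C.three; omega) hj0
  rw [hj, show j = 1 by omega, pow_one]

/-- An invariant elementary abelian subgroup through `z` is centralised. -/
theorem ea_cent {W : Subgroup G} (hW : EA 2 W) (hz : z ∈ W) (hEW : E ≤ Subgroup.normalizer (W : Set G)) :
    ∀ w ∈ W, w = 1 ∨ w = z := by
  haveI : Fact (Nat.Prime 2) := ⟨Nat.prime_two⟩
  have hcm : Cm E W := by
    by_contra hnc
    have hE1 : E ≠ ⊥ := fun h => hnc fun e he w hw => by rw [h, Subgroup.mem_bot] at he; rw [he, one_mul, mul_one]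
    obtain ⟨H, hHE, hHc, hH⟩ := exists_hyp C.ea hE1 hEW (C.coprime_sub hW.isPGroup)
      (L := Subgroup.centralizer (E : Set G)) inf_le_right (fun h => hnc (cm_iff.mpr h).symm)
    set V := W ⊓ Subgroup.centralizer (H : Set G)
    have hzV : z ∈ V := ⟨hz, Subgroup.mem_centralizer_iff.mpr fun h hh => C.cm h (hHE hh)⟩
    obtain ⟨w, hwV, hwE⟩ := SetLike.not_le_iff_exists.mp hH
    obtain ⟨e, he, hew⟩ : ∃ e ∈ E, e * w ≠ w * e := by
      by_contra hno
      push Not at hno
      exact hwE (Subgroup.mem_centralizer_iff.mpr hno)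
    set w' := e * w * e⁻¹
    have hw'V : w' ∈ V := by
      refine ⟨(Subgroup.mem_normalizer_iff.mp (hEW he) w).mp hwV.1, Subgroup.mem_centralizer_iff.mpr fun h hh => ?_⟩
      have h1 : Commute h e := C.ea.comm h (hHE hh) e he
      have h2 : Commute h w := Subgroup.mem_centralizer_iff.mp hwV.2 h hh
      exact ((h1.mul_right h2).mul_right h1.inv_right).eq
    have hwz : w ∉ Subgroup.zpowers z := fun h => by
      rcases mem_z C.sq h with e' | e'
      · exact hew (by rw [e', mul_one, one_mul])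
      · exact hew (by rw [e', C.cm e he])
    have hV : EA 2 V := hW.mono inf_le_left
    obtain ⟨h2, hc2⟩ := (ea_z C.sq).extend (hW.pow w hwV.1)
      (fun a ha => hV.comm a (Subgroup.zpowers_le.mpr hzV ha) w hwV) hwz
    have hw'not : w' ∉ Subgroup.zpowers z ⊔ Subgroup.zpowers w := by
      intro h
      obtain ⟨a, ha, i, hi⟩ := exists_mul_zpow
        (fun a ha => hV.comm a (Subgroup.zpowers_le.mpr hzV ha) w hwV) h
      have hwi := mem_z (hW.pow w hwV.1) (⟨i, rfl⟩ : w ^ i ∈ Subgroup.zpowers w)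
      have hw1 : w ≠ 1 := fun h => hwz (h ▸ one_mem _)
      rcases mem_z C.sq ha with e0 | e0 <;> rcases hwi with e1 | e1 <;> rw [e0, e1] at hi
      · rw [one_mul] at hi; exact hw1 (conj_eq_one_iff.mp hi)
      · rw [one_mul] at hi; exact hew (mul_inv_eq_iff_eq_mul.mp hi)
      · rw [mul_one] at hi
        refine hwz ⟨1, ?_⟩
        show z ^ (1 : ℤ) = w
        have : w = e⁻¹ * z * e := by rw [← hi]; simp only [w']; group
        rw [zpow_one, this, mul_assoc, ← C.cm e he, inv_mul_cancel_left]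
      · have h3 : e * (e * w * e⁻¹) * e⁻¹ = w := by
          show e * w' * e⁻¹ = w
          rw [hi, show e * (z * w) * e⁻¹ = (e * z * e⁻¹) * (e * w * e⁻¹) by group,
            show e * z * e⁻¹ = z by rw [C.cm e he, mul_inv_cancel_right]]
          show z * w' = w
          rw [hi, ← mul_assoc, ← pow_two, C.sq, one_mul]
        have h4 : Commute (e ^ 2) w := by
          show e ^ 2 * w = w * e ^ 2
          calc e ^ 2 * w = e * (e * w * e⁻¹) * e⁻¹ * e ^ 2 := by rw [pow_two]; group
            _ = w * e ^ 2 := by rw [h3]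
        obtain ⟨r, hr⟩ := hp.out.odd_of_ne_two C.ne_two
        have h5 : e = (e ^ 2) ^ (r + 1) := by
          rw [← pow_mul, show 2 * (r + 1) = p + 1 by omega, pow_succ, C.ea.pow e he, one_mul]
        have h6 := (h4.pow_left (r + 1)).eq
        rw [← h5] at h6
        exact hew h6
    obtain ⟨h3, hc3⟩ := h2.extend (hW.pow w' hw'V.1)
      (fun a ha => hV.comm a (sup_le (Subgroup.zpowers_le.mpr hzV) (Subgroup.zpowers_le.mpr hwV) ha) w' hw'V) hw'not
    rw [hc2, card_z C.sq C.ne_one] at hc3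
    obtain ⟨i, hi⟩ := (C.ea.mono hHE).exists_card
    have hni : i + 1 = n := by
      refine (Nat.pow_right_injective hp.out.two_le) ?_
      show p ^ (i + 1) = p ^ n
      rw [pow_succ, ← hi, hHc, C.card]
    have hb := CfsgLib.PairRank.bound C.ne_two C.loc C.bound (j := 3) (C.ea.mono hHE) h3 (fun h hh g hg => by
        have hg' : g ∈ V := sup_le (sup_le (Subgroup.zpowers_le.mpr hzV) (Subgroup.zpowers_le.mpr hwV))
          (Subgroup.zpowers_le.mpr hw'V) hg
        exact Subgroup.mem_centralizer_iff.mp hg'.2 h hh) hi (by rw [hc3]; norm_num)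
      (by have := C.three; omega) (by norm_num)
    omega
  intro w hw
  have h2 := C.small_cm hW hcm
  have hle : Subgroup.zpowers z ≤ W := Subgroup.zpowers_le.mpr hz
  have := Subgroup.eq_of_le_of_card_ge hle (by rw [card_z C.sq C.ne_one]; exact h2)
  exact mem_z C.sq (this.symm ▸ hw)

/-- An invariant abelian subgroup of `O_2` is centralised, and `z` is its only possible involution. -/
theorem abelian_cent {A : Subgroup G} (hA : A ≤ OT z) (hab : ∀ a ∈ A, ∀ b ∈ A, a * b = b * a)
    (hEA : E ≤ Subgroup.normalizer (A : Set G)) :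
    (∀ e ∈ E, ∀ a ∈ A, e * a = a * e) ∧ ∀ a ∈ A, a ^ 2 = 1 → a = 1 ∨ a = z := by
  haveI : Fact (Nat.Prime 2) := ⟨Nat.prime_two⟩
  let W : Subgroup G :=
    { carrier := {g | ∃ a ∈ A, a ^ 2 = 1 ∧ ∃ s ∈ Subgroup.zpowers z, g = a * s}
      one_mem' := ⟨1, one_mem _, one_pow _, 1, one_mem _, (one_mul 1).symm⟩
      mul_mem' := by
        rintro _ _ ⟨a, ha, ha2, s, hs, rfl⟩ ⟨b, hb, hb2, t, ht, rfl⟩
        have hsb : Commute s b := by
          rcases mem_z C.sq hs with rfl | rfl
          · exact Commute.one_left _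
          · exact (OT_comm C.sq C.ne_one (hA hb)).symm
        refine ⟨a * b, mul_mem ha hb, ?_, s * t, mul_mem hs ht, ?_⟩
        · rw [(show Commute a b from hab a ha b hb).mul_pow, ha2, hb2, one_mul]
        · rw [mul_assoc, ← mul_assoc s, hsb.eq, mul_assoc, mul_assoc]
      inv_mem' := by
        rintro _ ⟨a, ha, ha2, s, hs, rfl⟩
        refine ⟨a, ha, ha2, s, hs, ?_⟩
        have hs2 : s * s = 1 := by rw [← pow_two]; exact (ea_z C.sq).pow s hs
        have hsa : s * a = a * s := by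
          rcases mem_z C.sq hs with rfl | rfl
          · simp
          · exact (OT_comm C.sq C.ne_one (hA ha)).symm
        rw [mul_inv_rev, ← eq_inv_of_mul_eq_one_left hs2, ← eq_inv_of_mul_eq_one_left ((pow_two a).symm.trans ha2), hsa] }
  have hzc : ∀ {a : G}, a ∈ A → ∀ s ∈ Subgroup.zpowers z, a * s = s * a := by
    intro a ha s hs
    rcases mem_z C.sq hs with rfl | rfl
    · simp
    · exact OT_comm C.sq C.ne_one (hA ha)
  have hW : EA 2 W := by
    refine ⟨?_, ?_⟩
    · rintro _ ⟨a, ha, -, s, hs, rfl⟩ _ ⟨b, hb, -, t, ht, rfl⟩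
      exact ((Commute.mul_right (hab a ha b hb) (hzc ha t ht)).mul_left
        (Commute.mul_right (hzc hb s hs).symm ((ea_z C.sq).comm s hs t ht))).eq
    · rintro _ ⟨a, ha, ha2, s, hs, rfl⟩
      rw [(show Commute a s from hzc ha s hs).mul_pow, ha2, (ea_z C.sq).pow s hs, one_mul]
  have hEW : E ≤ Subgroup.normalizer (W : Set G) := by
    have key : ∀ e ∈ E, ∀ g ∈ W, e * g * e⁻¹ ∈ W := by
      rintro e he _ ⟨a, ha, ha2, s, hs, rfl⟩
      refine ⟨e * a * e⁻¹, (Subgroup.mem_normalizer_iff.mp (hEA he) a).mp ha, ?_, s, hs, ?_⟩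
      · rw [conj_pow, ha2, mul_one, mul_inv_cancel]
      · have : e * s = s * e := by
          rcases mem_z C.sq hs with rfl | rfl
          · simp
          · exact C.cm e he
        calc e * (a * s) * e⁻¹ = e * a * e⁻¹ * (e * s * e⁻¹) := by group
          _ = e * a * e⁻¹ * s := by rw [this, mul_inv_cancel_right]
    intro e he
    refine Subgroup.mem_normalizer_iff.mpr fun g => ⟨key e he g, fun h => ?_⟩
    have := key e⁻¹ (inv_mem he) _ h
    simpa [mul_assoc] using this
  have hw := C.ea_cent hW ⟨1, one_mem _, one_pow _, z, Subgroup.mem_zpowers z, (one_mul z).symm⟩ hEW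
  have h2 : ∀ a ∈ A, a ^ 2 = 1 → a = 1 ∨ a = z := fun a ha ha2 => hw a ⟨a, ha, ha2, 1, one_mem _, (mul_one a).symm⟩
  refine ⟨fun e he a ha => ?_, h2⟩
  obtain ⟨k, hk⟩ := OT_isPGroup z ⟨a, hA ha⟩
  have hk' : a ^ 2 ^ k = 1 := congrArg Subtype.val hk
  clear hk
  induction k generalizing a with
  | zero => rw [pow_zero, pow_one] at hk'; rw [hk', mul_one, one_mul]
  | succ k ih =>
    have h1 : e * a ^ 2 = a ^ 2 * e := ih _ (pow_mem ha 2) (by rw [← pow_mul, ← pow_succ']; exact hk')
    set c := e * a * e⁻¹ * a⁻¹ with hc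
    have hea : e * a * e⁻¹ ∈ A := (Subgroup.mem_normalizer_iff.mp (hEA he) a).mp ha
    have hcA : c ∈ A := mul_mem hea (inv_mem ha)
    have hc2 : c ^ 2 = 1 := by
      rw [hc, (show Commute (e * a * e⁻¹) a⁻¹ from hab _ hea _ (inv_mem ha)).mul_pow, conj_pow, h1, inv_pow]
      group
    have hec : e * c = c * e := by
      rcases h2 c hcA hc2 with h | h
      · rw [h]; simp
      · rw [h]; exact C.cm e he
    have := CfsgLib.Stabilizer.coprime_step (c := c) (r := a) (C.coprime_two he) ⟨1, by rw [pow_one]; exact hc2⟩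
      (by rw [hc, inv_mul_cancel_right]) hec
    rw [hc, mul_inv_eq_one] at this
    exact mul_inv_eq_iff_eq_mul.mp this

end Ctx

end CfsgLib.PairRank
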