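/-
Extraspecial structure and quaternion pairs in `O_2` of an involution centraliser.
-/
import Cfsg.Agent.Lib.PairRank.Struct

set_option autoImplicit false

namespace CfsgLib.PairRank

open Cfsg
open scoped commutatorElement

universe u

section ClassTwo

variable {H : Type u} [Group H]

theorem comm_pow_left (hc : ∀ x y : H, ⁅x, y⁆ ∈ Subgroup.center H) (a b : H) :
    ∀ m : ℕ, ⁅a ^ m, b⁆ = ⁅a, b⁆ ^ m := by
  intro m
  induction m with
  | zero => simp
  | succ m ih =>
    have h : ⁅a ^ (m + 1), b⁆ = a * ⁅a ^ m, b⁆ * a⁻¹ * ⁅a, b⁆ := by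
      simp only [commutatorElement_def, pow_succ']; group
    rw [h, Subgroup.mem_center_iff.mp (hc (a ^ m) b) a, mul_inv_cancel_right, ih, pow_succ]

theorem comm_pow_right (hc : ∀ x y : H, ⁅x, y⁆ ∈ Subgroup.center H) (a b : H) (m : ℕ) :
    ⁅a, b ^ m⁆ = ⁅a, b⁆ ^ m := by
  rw [← commutatorElement_inv, comm_pow_left hc, ← inv_pow, commutatorElement_inv]

/-- If abelian characteristic subgroups are central, commutators are central involutions. -/
theorem derived_small [Finite H] [Group.IsNilpotent H] (h2 : IsPGroup 2 H)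
    (hchar : ∀ A : Subgroup H, A.Characteristic → (∀ a ∈ A, ∀ b ∈ A, a * b = b * a) → A ≤ Subgroup.center H) :
    ∀ x y : H, ⁅x, y⁆ ∈ Subgroup.center H ∧ ⁅x, y⁆ ^ 2 = 1 ∧ x ^ 2 ∈ Subgroup.center H := by
  set Z := Subgroup.center H
  have hcomm : ∀ x y : H, ⁅x, y⁆ ∈ Z := by
    by_contra hno
    have hnle : ¬ commutator H ≤ Z := fun h => hno fun x y => h (by
      rw [commutator_def]; exact Subgroup.commutator_mem_commutator (Subgroup.mem_top x) (Subgroup.mem_top y))
    let A := Subgroup.upperCentralSeriesStep Z ⊓ commutator H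
    have hker : ∀ x ∈ Subgroup.upperCentralSeriesStep Z, ∀ y ∈ commutator H, x * y = y * x := by
      intro x hx y hy
      rw [Subgroup.mem_upperCentralSeriesStep] at hx
      let S : Subgroup H := Subgroup.centralizer {x}
      have : commutator H ≤ S := by
        rw [commutator_def, Subgroup.commutator_le]
        intro a _ b _
        refine Subgroup.mem_centralizer_singleton_iff.mpr ?_
        have ha : x * a * x⁻¹ = ⁅x, a⁆ * a := by rw [commutatorElement_def, inv_mul_cancel_right]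
        have hb : x * b * x⁻¹ = ⁅x, b⁆ * b := by rw [commutatorElement_def, inv_mul_cancel_right]
        have key : x * ⁅a, b⁆ * x⁻¹ = ⁅a, b⁆ := by
          rw [show x * ⁅a, b⁆ * x⁻¹ = ⁅x * a * x⁻¹, x * b * x⁻¹⁆ by simp only [commutatorElement_def]; group, ha, hb]
          have c1 : ∀ g : H, ⁅x, a⁆ * g = g * ⁅x, a⁆ := fun g => (Subgroup.mem_center_iff.mp (hx a) g).symm
          have c2 : ∀ g : H, ⁅x, b⁆ * g = g * ⁅x, b⁆ := fun g => (Subgroup.mem_center_iff.mp (hx b) g).symm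
          simp only [commutatorElement_def (⁅x, a⁆ * a), commutatorElement_def a b, mul_inv_rev]
          calc ⁅x, a⁆ * a * (⁅x, b⁆ * b) * (a⁻¹ * ⁅x, a⁆⁻¹) * (b⁻¹ * ⁅x, b⁆⁻¹)
              = ⁅x, a⁆ * (a * ⁅x, b⁆) * b * a⁻¹ * (⁅x, a⁆⁻¹ * b⁻¹) * ⁅x, b⁆⁻¹ := by group
            _ = ⁅x, a⁆ * (⁅x, b⁆ * a) * b * a⁻¹ * (b⁻¹ * ⁅x, a⁆⁻¹) * ⁅x, b⁆⁻¹ := by
                rw [c2 a, (show Commute ⁅x, a⁆ b⁻¹ from c1 b⁻¹).inv_left.eq]
            _ = (⁅x, a⁆ * ⁅x, b⁆) * (a * b * a⁻¹ * b⁻¹) * ((⁅x, a⁆ * ⁅x, b⁆)⁻¹) := by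
                rw [show (⁅x, a⁆ * ⁅x, b⁆)⁻¹ = ⁅x, a⁆⁻¹ * ⁅x, b⁆⁻¹ by
                  rw [← mul_inv_rev, c1 ⁅x, b⁆]]
                group
            _ = a * b * a⁻¹ * b⁻¹ := by
                rw [(show Commute (⁅x, a⁆ * ⁅x, b⁆) (a * b * a⁻¹ * b⁻¹) from
                  Commute.mul_left (c1 _) (c2 _)).eq, mul_inv_cancel_right]
        calc ⁅a, b⁆ * x = x * ⁅a, b⁆ * x⁻¹ * x := by rw [key]
          _ = x * ⁅a, b⁆ := by group
      exact (Subgroup.mem_centralizer_singleton_iff.mp (this hy)).symm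
    have hA : A ≤ Z := hchar A inferInstance (fun a ha b hb => hker a ha.1 b hb.2)
    let f := QuotientGroup.mk' Z
    have hn : ((commutator H).map f).Normal :=
      Subgroup.Normal.map inferInstance f (QuotientGroup.mk'_surjective Z)
    have hne : (commutator H).map f ≠ ⊥ := by
      rw [Ne, Subgroup.map_eq_bot_iff, QuotientGroup.ker_mk']; exact hnle
    obtain ⟨⟨w, hw⟩, hw1'⟩ := Subgroup.ne_bot_iff_exists_ne_one.mp (CfsgLib.inf_center_ne_bot_of_nilpotent hne)
    have hw1 : w ≠ 1 := fun h => hw1' (Subtype.ext h)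
    obtain ⟨⟨x, hx, rfl⟩, hc⟩ := hw
    refine hw1 ((QuotientGroup.eq_one_iff x).mpr (hA ⟨(Subgroup.mem_upperCentralSeriesStep Z x).mpr ?_, hx⟩))
    intro y
    rw [← QuotientGroup.eq_one_iff]
    refine (map_commutatorElement f x y).trans ?_
    rw [commutatorElement_eq_one_iff_mul_comm]
    exact (Subgroup.mem_center_iff.mp hc (f y)).symm
  have hex : ∃ s : ℕ, ∀ x y : H, ⁅x, y⁆ ^ 2 ^ s = 1 := by
    obtain ⟨s, hs⟩ := IsPGroup.iff_card.mp h2
    exact ⟨s, fun x y => hs ▸ pow_card_eq_one'⟩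
  have hsq : ∀ x y : H, ⁅x, y⁆ ^ 2 = 1 := by
    classical
    by_contra hno
    set s := Nat.find hex
    have hs : ∀ x y : H, ⁅x, y⁆ ^ 2 ^ s = 1 := Nat.find_spec hex
    have hs2 : 2 ≤ s := by
      by_contra h
      refine hno fun x y => ?_
      have := hs x y
      interval_cases s
      · rw [pow_zero, pow_one] at this; rw [this, one_pow]
      · rwa [pow_one] at this
    refine Nat.find_min hex (show s - 1 < s by omega) fun x y => ?_
    set m := 2 ^ (s - 1)
    let A : Subgroup H := Subgroup.closure (Set.range fun g : H => g ^ m)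
    have hA : A.Characteristic := by
      rw [Subgroup.characteristic_iff_map_le]
      intro e
      rw [MonoidHom.map_closure, Subgroup.closure_le]
      rintro _ ⟨_, ⟨g, rfl⟩, rfl⟩
      exact Subgroup.subset_closure ⟨e g, (map_pow e g m).symm⟩
    have hgen : ∀ a b : H, a ^ m * b ^ m = b ^ m * a ^ m := fun a b => by
      rw [← commutatorElement_eq_one_iff_mul_comm, comm_pow_left hcomm, comm_pow_right hcomm, ← pow_mul]
      obtain ⟨c, hc⟩ : 2 ^ s ∣ m * m := by
        rw [← pow_add]; exact pow_dvd_pow 2 (by omega)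
      rw [hc, pow_mul, hs, one_pow]
    have hab : ∀ a ∈ A, ∀ b ∈ A, a * b = b * a := by
      have h1 : A ≤ Subgroup.centralizer (Set.range fun g : H => g ^ m) := by
        rw [Subgroup.closure_le]
        rintro _ ⟨g, rfl⟩
        exact Subgroup.mem_centralizer_iff.mpr (by rintro _ ⟨g', rfl⟩; exact hgen g' g)
      intro a ha b hb
      have h2 : A ≤ Subgroup.centralizer {b} := by
        rw [Subgroup.closure_le]
        rintro _ ⟨g, rfl⟩
        exact Subgroup.mem_centralizer_singleton_iff.mpr (Subgroup.mem_centralizer_iff.mp (h1 hb) _ ⟨g, rfl⟩)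
      exact Subgroup.mem_centralizer_singleton_iff.mp (h2 ha)
    have := Subgroup.mem_center_iff.mp (hchar A hA hab (Subgroup.subset_closure ⟨x, rfl⟩)) y
    have h3 : ⁅x ^ m, y⁆ = 1 := commutatorElement_eq_one_iff_mul_comm.mpr this.symm
    rwa [comm_pow_left hcomm] at h3
  intro x y
  refine ⟨hcomm x y, hsq x y, Subgroup.mem_center_iff.mpr fun g => (?_ : g * x ^ 2 = x ^ 2 * g)⟩
  have h3 : ⁅x ^ 2, g⁆ = 1 := by rw [comm_pow_left hcomm, hsq]
  exact (commutatorElement_eq_one_iff_mul_comm.mp h3).symm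

end ClassTwo

variable {G : Type u} [Group G] [Finite G] {p : ℕ} [hp : Fact p.Prime]

namespace Ctx

variable {n : ℕ} {z : G} {E : Subgroup G} (C : Ctx p n z E)
include C

/-- An `E`-invariant subgroup of `O_2` equal to its commutator with `E` is extraspecial modulo nothing. -/
theorem facts {X : Subgroup G} (hX : X ≤ OT z) (hEX : E ≤ Subgroup.normalizer (X : Set G)) (hXE : ⁅X, E⁆ = X) :
    (∀ x ∈ X, ∀ y ∈ X, ⁅x, y⁆ = 1 ∨ ⁅x, y⁆ = z) ∧ (∀ x ∈ X, x ^ 2 = 1 ∨ x ^ 2 = z) ∧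
      ∀ x ∈ X, (∀ e ∈ E, e * x = x * e) → x = 1 ∨ x = z := by
  haveI : Fact (Nat.Prime 2) := ⟨Nat.prime_two⟩
  have hX2 : IsPGroup 2 X := (OT_isPGroup z).to_le hX
  haveI := hX2.isNilpotent
  have hchar : ∀ A : Subgroup ↥X, A.Characteristic → (∀ a ∈ A, ∀ b ∈ A, a * b = b * a) → A ≤ Subgroup.center ↥X := by
    intro A hA hab a ha
    set A' := A.map X.subtype with hA'
    obtain ⟨hEA, hXA⟩ := CfsgLib.le_normalizer_map_characteristic hEX A
    obtain ⟨hcent, -⟩ := C.abelian_cent ((Subgroup.map_subtype_le A).trans hX) (by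
      rintro _ ⟨b, hb, rfl⟩ _ ⟨c, hc, rfl⟩; exact congrArg Subtype.val (hab b hb c hc)) hEA
    have hle : X ≤ Subgroup.centralizer (A' : Set G) := by
      conv_lhs => rw [← hXE]
      rw [Subgroup.commutator_le]
      intro k hk e he
      refine Subgroup.mem_centralizer_iff.mpr fun c hc => ?_
      have hb : k⁻¹ * c * k ∈ A' := by
        have := (Subgroup.mem_normalizer_iff.mp (hXA (inv_mem hk)) c).mp hc
        rwa [inv_inv] at this
      have e1 := hcent e he _ hb
      have e2 : c * e = e * c := (hcent e he c hc).symm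
      calc c * ⁅k, e⁆ = k * (k⁻¹ * c * k) * e * k⁻¹ * e⁻¹ := by rw [commutatorElement_def]; group
        _ = k * e * (k⁻¹ * c * k) * k⁻¹ * e⁻¹ := by rw [mul_assoc k _ e, ← e1, ← mul_assoc]
        _ = k * e * k⁻¹ * (c * e) * e⁻¹ * e⁻¹ := by group
        _ = k * e * k⁻¹ * (e * c) * e⁻¹ * e⁻¹ := by rw [e2]
        _ = k * e * k⁻¹ * (e * c * e⁻¹) * e⁻¹ := by group
        _ = k * e * k⁻¹ * (c * e * e⁻¹) * e⁻¹ := by rw [← e2]
        _ = k * e * k⁻¹ * (e⁻¹ * (e * c)) * e⁻¹ := by group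
        _ = k * e * k⁻¹ * (e⁻¹ * (c * e)) * e⁻¹ := by rw [e2]
        _ = ⁅k, e⁆ * c := by rw [commutatorElement_def]; group
    refine Subgroup.mem_center_iff.mpr fun b => Subtype.ext ?_
    exact (Subgroup.mem_centralizer_iff.mp (hle b.2) a ⟨a, ha, rfl⟩).symm
  have hd := derived_small hX2 hchar
  obtain ⟨hEZ, -⟩ := CfsgLib.le_normalizer_map_characteristic hEX (Subgroup.center ↥X)
  obtain ⟨hZc, hZ2⟩ := C.abelian_cent (A := (Subgroup.center ↥X).map X.subtype)
    ((Subgroup.map_subtype_le _).trans hX) (by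
      rintro _ ⟨b, hb, rfl⟩ _ ⟨c, hc, rfl⟩
      exact congrArg Subtype.val (Subgroup.mem_center_iff.mp hc b)) hEZ
  have hcom : ∀ x y : ↥X, (⁅x, y⁆ : ↥X) ∈ (Subgroup.zpowers z).subgroupOf X := fun x y => by
    obtain ⟨h1, h2, -⟩ := hd x y
    rcases hZ2 _ ⟨_, h1, rfl⟩ (congrArg Subtype.val h2) with e | e
    · rw [Subgroup.mem_subgroupOf]; show X.subtype ⁅x, y⁆ ∈ _; rw [e]; exact one_mem _
    · rw [Subgroup.mem_subgroupOf]; show X.subtype ⁅x, y⁆ ∈ _; rw [e]; exact Subgroup.mem_zpowers z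
  -- the norm map kills `X`
  have hfix : ∀ x ∈ X, (∀ e ∈ E, e * x = x * e) → x = 1 ∨ x = z := by
    intro x hx hxE
    set N := (Subgroup.zpowers z).subgroupOf X
    haveI : N.Normal := ⟨fun a ha g => by
      rw [Subgroup.mem_subgroupOf] at ha ⊢
      have : (g : G) * a = a * g := by
        rcases mem_z C.sq ha with e | e
        · rw [e, mul_one, one_mul]
        · rw [e]; exact OT_comm C.sq C.ne_one (hX g.2)
      rwa [Subgroup.coe_mul, Subgroup.coe_mul, Subgroup.coe_inv, this, mul_inv_cancel_right]⟩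
    have hcq : ∀ a b : ↥X ⧸ N, a * b = b * a := by
      intro a b
      induction a using QuotientGroup.induction_on with
      | H a =>
        induction b using QuotientGroup.induction_on with
        | H b =>
          rw [← commutatorElement_eq_one_iff_mul_comm]
          exact (map_commutatorElement (QuotientGroup.mk' N) a b).symm.trans ((QuotientGroup.eq_one_iff _).mpr (hcom a b))
    letI : CommGroup (↥X ⧸ N) := { (inferInstance : Group (↥X ⧸ N)) with mul_comm := hcq }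
    haveI := Fintype.ofFinite ↥E
    let cj : ↥E → ↥X → ↥X := fun e a =>
      ⟨(e : G) * a * (e : G)⁻¹, (Subgroup.mem_normalizer_iff.mp (hEX e.2) a).mp a.2⟩
    let f : ↥X →* ↥X ⧸ N :=
      { toFun := fun a => ∏ e : ↥E, (QuotientGroup.mk (cj e a) : ↥X ⧸ N)
        map_one' := Finset.prod_eq_one fun e _ => by
          rw [show cj e 1 = 1 from Subtype.ext (by simp [cj])]; rfl
        map_mul' := fun a b => by
          rw [← Finset.prod_mul_distrib]
          refine Finset.prod_congr rfl fun e _ => ?_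
          rw [← QuotientGroup.mk_mul]
          congr 1
          exact Subtype.ext (by simp [cj, mul_assoc]) }
    have hker : ∀ a : ↥X, f a = 1 := by
      intro a
      have hle : X ≤ f.ker.map X.subtype := by
        conv_lhs => rw [← hXE]
        rw [Subgroup.commutator_le]
        intro k hk e he
        have hek : e * k⁻¹ * e⁻¹ ∈ X := (Subgroup.mem_normalizer_iff.mp (hEX he) k⁻¹).mp (inv_mem hk)
        refine ⟨⟨k, hk⟩ * ⟨e * k⁻¹ * e⁻¹, hek⟩, ?_, by simp [commutatorElement_def, mul_assoc]⟩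
        rw [SetLike.mem_coe, MonoidHom.mem_ker, map_mul]
        have h1 : f ⟨e * k⁻¹ * e⁻¹, hek⟩ = f (⟨k, hk⟩⁻¹) := by
          show ∏ d : ↥E, _ = ∏ d : ↥E, _
          refine Fintype.prod_equiv (Equiv.mulRight (⟨e, he⟩ : ↥E)) _ _ fun d => ?_
          congr 1
          exact Subtype.ext (by simp [cj, mul_assoc])
        rw [h1, map_inv, mul_inv_cancel]
      obtain ⟨b, hb, hba⟩ := hle a.2
      rw [← show b = a from Subtype.ext hba]
      exact hb
    have h1 := hker ⟨x, hx⟩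
    have h2 : ∀ e : ↥E, cj e ⟨x, hx⟩ = ⟨x, hx⟩ := fun e => Subtype.ext (by
      show (e : G) * x * (e : G)⁻¹ = x
      rw [hxE e e.2, mul_inv_cancel_right])
    have h3 : (QuotientGroup.mk (⟨x, hx⟩ : ↥X) : ↥X ⧸ N) ^ Nat.card ↥E = 1 := by
      have h1' : ∏ e : ↥E, (QuotientGroup.mk (cj e ⟨x, hx⟩) : ↥X ⧸ N) = 1 := h1
      simp only [h2, Finset.prod_const, Finset.card_univ] at h1'
      rwa [Nat.card_eq_fintype_card]
    obtain ⟨k, hk⟩ := (hX2.to_quotient N) (QuotientGroup.mk (⟨x, hx⟩ : ↥X))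
    have h4 : orderOf (QuotientGroup.mk (⟨x, hx⟩ : ↥X) : ↥X ⧸ N) = 1 :=
      Nat.eq_one_of_dvd_coprimes (C.card ▸ Nat.Coprime.pow n k ((Nat.coprime_primes hp.out Nat.prime_two).mpr C.ne_two) :
        (Nat.card ↥E).Coprime (2 ^ k)) (orderOf_dvd_of_pow_eq_one h3) (orderOf_dvd_of_pow_eq_one hk)
    rw [orderOf_eq_one_iff, QuotientGroup.eq_one_iff, Subgroup.mem_subgroupOf] at h4
    exact mem_z C.sq h4
  refine ⟨fun x hx y hy => mem_z C.sq (hcom ⟨x, hx⟩ ⟨y, hy⟩), fun x hx => ?_, hfix⟩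
  obtain ⟨-, -, h3⟩ := hd ⟨x, hx⟩ ⟨x, hx⟩
  exact hfix _ (pow_mem hx 2) fun e he => hZc e he _ ⟨_, h3, rfl⟩

end Ctx

end CfsgLib.PairRank
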