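/-
Weight subgroups of a maximal-rank `p`-group on `O_2` of an involution centraliser.
-/
import Cfsg.Agent.Lib.PairRank.Extra

set_option autoImplicit false

namespace CfsgLib.PairRank

open Cfsg
open scoped commutatorElement

universe u
variable {G : Type u} [Group G] [Finite G] {p : ℕ} [hp : Fact p.Prime]

omit [Finite G] in
theorem coprime_meet {q r : ℕ} (hq : q.Prime) (hr : r.Prime) (hne : q ≠ r) {A B : Subgroup G} (hA : IsPGroup q A)
    (hB : IsPGroup r B) {g : G} (hgA : g ∈ A) (hgB : g ∈ B) : g = 1 := by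
  obtain ⟨i, hi⟩ := hA ⟨g, hgA⟩
  obtain ⟨j, hj⟩ := hB ⟨g, hgB⟩
  exact orderOf_eq_one_iff.mp (Nat.eq_one_of_dvd_coprimes (Nat.Coprime.pow i j ((Nat.coprime_primes hq hr).mpr hne))
    (orderOf_dvd_of_pow_eq_one (congrArg Subtype.val hi)) (orderOf_dvd_of_pow_eq_one (congrArg Subtype.val hj)))

/-- Two hyperplanes meet in a subgroup of index `p ^ 2`. -/
theorem inf_card {E H H' : Subgroup G} (hE : EA p E) (hH : H ≤ E) (hH' : H' ≤ E) (hc : Nat.card H * p = Nat.card E)
    (hc' : Nat.card H' * p = Nat.card E) (hne : H ≠ H') : Nat.card ↥(H ⊓ H') * p ^ 2 = Nat.card E := by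
  obtain ⟨r, hr', hr⟩ : ∃ r ∈ H', r ∉ H := by
    by_contra hno
    push Not at hno
    exact hne (Subgroup.eq_of_le_of_card_ge hno
      (le_of_eq (Nat.eq_of_mul_eq_mul_right hp.out.pos (hc.trans hc'.symm)))).symm
  have hcm : ∀ a ∈ H ⊓ H', a * r = r * a := fun a ha => hE.comm a (hH ha.1) r (hH' hr')
  obtain ⟨-, hk⟩ := (hE.mono (inf_le_left.trans hH)).extend (hE.pow r (hH' hr')) hcm (fun h => hr h.1)
  have he : (H ⊓ H') ⊔ Subgroup.zpowers r = H' := by
    refine le_antisymm (sup_le inf_le_right (Subgroup.zpowers_le.mpr hr')) fun g hg => ?_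
    obtain ⟨h, hh, i, rfl⟩ := hyp_decomp hE hH hc (hH' hr') hr (hH' hg)
    refine mul_mem (Subgroup.mem_sup_left ⟨hh, ?_⟩) (Subgroup.mem_sup_right ⟨i, rfl⟩)
    have := mul_mem hg (inv_mem (H'.zpow_mem hr' i))
    rwa [mul_inv_cancel_right] at this
  rw [he] at hk
  rw [← hc', hk]; ring

namespace Ctx

variable {n : ℕ} {z : G} {E : Subgroup G} (C : Ctx p n z E)
include C

omit hp in
theorem norm_cent {H : Subgroup G} (hH : H ≤ E) :
    E ≤ Subgroup.normalizer ((OT z ⊓ Subgroup.centralizer (H : Set G) : Subgroup G) : Set G) := by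
  intro e he
  refine Subgroup.mem_normalizer_iff.mpr fun w => ?_
  have h2 : e ∈ Subgroup.normalizer ((Subgroup.centralizer (H : Set G) : Subgroup G) : Set G) :=
    Subgroup.le_normalizer (Subgroup.mem_centralizer_iff.mpr fun h hh => C.ea.comm h (hH hh) e he)
  rw [Subgroup.mem_inf, Subgroup.mem_inf, Subgroup.mem_normalizer_iff.mp (C.norm he) w,
    Subgroup.mem_normalizer_iff.mp h2 w]

theorem comm_self {K : Subgroup G} (hK : K ≤ OT z) (hEK : E ≤ Subgroup.normalizer (K : Set G)) :
    ⁅K, E⁆ ≤ OT z ∧ E ≤ Subgroup.normalizer ((⁅K, E⁆ : Subgroup G) : Set G) ∧ ⁅⁅K, E⁆, E⁆ = ⁅K, E⁆ :=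
  ⟨(CfsgLib.commutator_le_of_le_normalizer hEK).trans hK, CfsgLib.right_le_normalizer_commutator E K,
    CfsgLib.coprime_commutator_commutator hEK (C.coprime_sub ((OT_isPGroup z).to_le hK))
      (Or.inl (Group.isSolvable_of_comm fun a b : ↥E => Subtype.ext (C.ea.comm a a.2 b b.2)))⟩

/-- A weight subgroup contains a quaternion pair. -/
theorem pair {H : Subgroup G} (hH : H ≤ E)
    (hne : ¬ OT z ⊓ Subgroup.centralizer (H : Set G) ≤ Subgroup.centralizer (E : Set G)) :
    ∃ x ∈ ⁅OT z ⊓ Subgroup.centralizer (H : Set G), E⁆, ∃ y ∈ ⁅OT z ⊓ Subgroup.centralizer (H : Set G), E⁆,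
      x * x = z ∧ y * y = z ∧ x * y = z * (y * x) := by
  set K := OT z ⊓ Subgroup.centralizer (H : Set G)
  obtain ⟨hR, hER, hRE⟩ := C.comm_self (inf_le_left : K ≤ OT z) (C.norm_cent hH)
  set R := ⁅K, E⁆
  obtain ⟨hcomm, hsq, hfix⟩ := C.facts hR hER hRE
  have hzc : ∀ g ∈ R, g * z = z * g := fun g hg => OT_comm C.sq C.ne_one (hR hg)
  have hzz : z * z = 1 := by rw [← pow_two]; exact C.sq
  have hnab : ¬ ∀ a ∈ R, ∀ b ∈ R, a * b = b * a := by
    intro hab
    obtain ⟨h1, -⟩ := C.abelian_cent hR hab hER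
    have hR1 : R = ⊥ := by
      rw [← hRE, Subgroup.commutator_eq_bot_iff_le_centralizer]
      exact fun a ha => Subgroup.mem_centralizer_iff.mpr fun e he => h1 e he a ha
    exact hne (Subgroup.commutator_eq_bot_iff_le_centralizer.mp hR1)
  have hmove : ∀ a ∈ R, a * a = z → ∃ b ∈ R, a * b ≠ b * a := by
    intro a ha ha2
    by_contra hno
    push Not at hno
    obtain ⟨h1, -⟩ := C.abelian_cent (A := (Subgroup.center ↥R).map R.subtype) ((Subgroup.map_subtype_le _).trans hR)
      (by rintro _ ⟨b, hb, rfl⟩ _ ⟨c, hc, rfl⟩; exact congrArg Subtype.val (Subgroup.mem_center_iff.mp hc b))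
      (CfsgLib.le_normalizer_map_characteristic hER _).1
    have hac : a ∈ (Subgroup.center ↥R).map R.subtype :=
      ⟨⟨a, ha⟩, Subgroup.mem_center_iff.mpr fun b => Subtype.ext (hno b b.2).symm, rfl⟩
    rcases hfix a ha (fun e he => h1 e he a hac) with e | e <;> rw [e] at ha2
    · exact C.ne_one (by simpa using ha2.symm)
    · exact C.ne_one (hzz.symm.trans ha2).symm
  obtain ⟨x, hx, hx2⟩ : ∃ x ∈ R, x * x = z := by
    by_contra hno
    push Not at hno
    refine hnab fun a ha b hb => ?_
    have h2 : ∀ g ∈ R, g * g = 1 := fun g hg => by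
      rcases hsq g hg with h | h
      · rwa [← pow_two]
      · exact absurd ((pow_two g).symm.trans h) (hno g hg)
    have h3 := h2 (a * b) (mul_mem ha hb)
    calc a * b = a * ((a * b) * (a * b)) * b := by rw [h3, mul_one]
      _ = (a * a) * (b * a) * (b * b) := by group
      _ = b * a := by rw [h2 a ha, h2 b hb, one_mul, mul_one]
  obtain ⟨y, hy, hxy⟩ := hmove x hx hx2
  have hxy' : x * y = z * (y * x) := by
    rcases hcomm x hx y hy with h | h
    · exact absurd (commutatorElement_eq_one_iff_mul_comm.mp h) hxy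
    · rw [← h, commutatorElement_def]; group
  rcases hsq y hy with hy2 | hy2
  swap
  · exact ⟨x, hx, y, hy, hx2, by rw [← pow_two]; exact hy2, hxy'⟩
  rw [pow_two] at hy2
  by_cases hw : ∃ w ∈ R, w * x = x * w ∧ w * y = y * w ∧ w * w = z
  · obtain ⟨w, hw, hwx, hwy, hw2⟩ := hw
    refine ⟨x, hx, y * w, mul_mem hy hw, hx2, ?_, ?_⟩
    · rw [mul_assoc, ← mul_assoc w, hwy, mul_assoc, hw2, ← mul_assoc, hy2, one_mul]
    · rw [← mul_assoc, hxy', mul_assoc, mul_assoc y x w, ← hwx, mul_assoc y w x]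
  push Not at hw
  exfalso
  -- the centraliser of the pair is trivial modulo `z`
  have hyx : y * x = z * (x * y) := by rw [hxy', ← mul_assoc, hzz, one_mul]
  have hW1 : ∀ w ∈ R, w * x = x * w → w * y = y * w → w * w = 1 := fun w hw' h1 h2 => by
    rcases hsq w hw' with h | h
    · rwa [← pow_two]
    · exact absurd ((pow_two w).symm.trans h) (hw w hw' h1 h2)
  have hsplit : ∀ g ∈ R, ∃ s ∈ ({1, x, y, x * y} : Set G), (g * s) * x = x * (g * s) ∧ (g * s) * y = y * (g * s) := by
    intro g hg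
    have hgx : g * x = x * g ∨ g * x = z * (x * g) := by
      rcases hcomm g hg x hx with h | h
      · exact Or.inl (commutatorElement_eq_one_iff_mul_comm.mp h)
      · exact Or.inr (by rw [← h, commutatorElement_def]; group)
    have hgy : g * y = y * g ∨ g * y = z * (y * g) := by
      rcases hcomm g hg y hy with h | h
      · exact Or.inl (commutatorElement_eq_one_iff_mul_comm.mp h)
      · exact Or.inr (by rw [← h, commutatorElement_def]; group)
    have hgz : g * z = z * g := hzc g hg
    have hxz : x * z = z * x := hzc x hx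
    have hyz : y * z = z * y := hzc y hy
    rcases hgx with a | a <;> rcases hgy with b | b
    · exact ⟨1, by simp, by rw [mul_one]; exact a, by rw [mul_one]; exact b⟩
    · refine ⟨x, by simp, ?_, ?_⟩
      · rw [a]; simp only [← mul_assoc]; rw [mul_assoc x g x, a, ← mul_assoc]
      · calc g * x * y = g * (z * (y * x)) := by rw [mul_assoc, hxy']
          _ = z * (g * y) * x := by rw [← mul_assoc, hgz]; simp only [mul_assoc]
          _ = (z * z) * (y * g) * x := by rw [b]; simp only [mul_assoc]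
          _ = y * (g * x) := by rw [hzz, one_mul, mul_assoc]
    · refine ⟨y, by simp, ?_, ?_⟩
      · calc g * y * x = g * (z * (x * y)) := by rw [mul_assoc, hyx]
          _ = z * (g * x) * y := by rw [← mul_assoc, hgz]; simp only [mul_assoc]
          _ = (z * z) * (x * g) * y := by rw [a]; simp only [mul_assoc]
          _ = x * (g * y) := by rw [hzz, one_mul, mul_assoc]
      · rw [b]; simp only [← mul_assoc]; rw [mul_assoc y g y, b, ← mul_assoc]
    · refine ⟨x * y, by simp, ?_, ?_⟩
      · calc g * (x * y) * x = g * x * (y * x) := by simp only [mul_assoc]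
          _ = z * (x * g) * (z * (x * y)) := by rw [a, hyx]
          _ = z * (x * (g * z)) * (x * y) := by simp only [mul_assoc]
          _ = z * ((x * z) * g) * (x * y) := by rw [hgz]; simp only [mul_assoc]
          _ = (z * z) * (x * g) * (x * y) := by rw [hxz]; simp only [mul_assoc]
          _ = x * (g * (x * y)) := by rw [hzz, one_mul, mul_assoc]
      · calc g * (x * y) * y = (g * x) * (y * y) := by simp only [mul_assoc]
          _ = z * (x * g) := by rw [hy2, mul_one, a]
          _ = z * (x * g) * (y * y) := by rw [hy2, mul_one]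
          _ = z * x * (g * y) * y := by simp only [mul_assoc]
          _ = z * x * (z * (y * g)) * y := by rw [b]
          _ = z * (x * z) * y * g * y := by simp only [mul_assoc]
          _ = (z * z) * (x * y) * (g * y) := by rw [hxz]; simp only [mul_assoc]
          _ = z * (y * x) * (g * y) := by rw [hzz, one_mul, hxy']
          _ = (z * y) * (x * (g * y)) := by simp only [mul_assoc]
          _ = (y * z) * (x * (g * y)) := by rw [hyz]
          _ = y * ((z * (x * g)) * y) := by simp only [mul_assoc]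
          _ = y * (g * (x * y)) := by rw [← a, mul_assoc]
  have hsR : ∀ s ∈ ({1, x, y, x * y} : Set G), s ∈ R := by
    intro s hs
    rcases hs with e | e | e | e <;> rw [e]
    exacts [one_mem _, hx, hy, mul_mem hx hy]
  have hWz : ∀ w ∈ R, w * x = x * w → w * y = y * w → w = 1 ∨ w = z := by
    intro w hw' h1 h2
    have hwc : ∀ g ∈ R, g * w = w * g := by
      intro g hg
      obtain ⟨s, hs, k1, k2⟩ := hsplit g hg
      have hgs : g * s ∈ R := mul_mem hg (hsR s hs)
      have hS : Commute (g * s) w := by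
        have e1 := hW1 _ hgs k1 k2
        have e2 := hW1 _ hw' h1 h2
        have e3 := hW1 _ (mul_mem hgs hw') ((Commute.mul_left (show Commute (g * s) x from k1) (show Commute w x from h1)).eq)
          ((Commute.mul_left (show Commute (g * s) y from k2) (show Commute w y from h2)).eq)
        show g * s * w = w * (g * s)
        calc g * s * w = (g * s) * ((g * s * w) * (g * s * w)) * w := by rw [e3, mul_one]
          _ = ((g * s) * (g * s)) * (w * (g * s)) * (w * w) := by simp only [mul_assoc]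
          _ = w * (g * s) := by rw [e1, e2, one_mul, mul_one]
      have hsw : Commute s w := by
        rcases hs with e | e | e | e <;> rw [e]
        exacts [Commute.one_left _, (show Commute x w from h1.symm), (show Commute y w from h2.symm),
          Commute.mul_left (show Commute x w from h1.symm) (show Commute y w from h2.symm)]
      have h5 := hS.mul_left hsw.inv_left
      rwa [mul_inv_cancel_right] at h5
    obtain ⟨-, h6⟩ := C.abelian_cent (A := (Subgroup.center ↥R).map R.subtype) ((Subgroup.map_subtype_le _).trans hR)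
      (by rintro _ ⟨b, hb, rfl⟩ _ ⟨c, hc, rfl⟩; exact congrArg Subtype.val (Subgroup.mem_center_iff.mp hc b))
      (CfsgLib.le_normalizer_map_characteristic hER _).1
    exact h6 w ⟨⟨w, hw'⟩, Subgroup.mem_center_iff.mpr fun b => Subtype.ext (hwc b b.2), rfl⟩
      (by rw [pow_two]; exact hW1 w hw' h1 h2)
  have hroot : ∀ g ∈ R, g * g = z → g = x ∨ g = z * x := by
    intro g hg hg2
    obtain ⟨s, hs, k1, k2⟩ := hsplit g hg
    have hxyxy : (x * y) * (x * y) = 1 := by
      calc (x * y) * (x * y) = z * (y * x) * (x * y) := by rw [hxy']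
        _ = z * y * (x * x) * y := by simp only [mul_assoc]
        _ = z * (y * z) * y := by rw [hx2]; simp only [mul_assoc]
        _ = 1 := by rw [hzc y hy]; simp only [← mul_assoc]; rw [hzz, one_mul, hy2]
    have hgs : g * s = 1 ∨ g * s = z := hWz _ (mul_mem hg (hsR s hs)) k1 k2
    have hgeq : g = s⁻¹ ∨ g = z * s⁻¹ := hgs.imp eq_inv_of_mul_eq_one_left (fun h => by rw [← h, mul_inv_cancel_right])
    have hxinv : x⁻¹ = z * x := inv_eq_of_mul_eq_one_right (by rw [← mul_assoc, hzc x hx, mul_assoc, hx2, hzz])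
    have hbad : ∀ t, t ∈ R → t * t = 1 → (g = t ∨ g = z * t) → False := by
      intro t ht ht2 hgt
      rcases hgt with e | e <;> rw [e] at hg2
      · exact C.ne_one (hg2.symm.trans ht2)
      · refine C.ne_one ?_
        rw [← hg2, mul_assoc, ← mul_assoc t z t, hzc t ht, mul_assoc, ← mul_assoc z z, hzz, one_mul, ht2]
    rcases hs with e0 | e0 | e0 | e0 <;> rw [e0] at hgeq
    · exact (hbad 1 (one_mem _) (one_mul 1) (by simpa using hgeq)).elim
    · rw [hxinv] at hgeq
      rcases hgeq with e | e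
      · exact Or.inr e
      · left; rw [e, ← mul_assoc, hzz, one_mul]
    · exact (hbad y hy hy2 (by rwa [inv_eq_of_mul_eq_one_right hy2] at hgeq)).elim
    · exact (hbad (x * y) (mul_mem hx hy) hxyxy (by rwa [inv_eq_of_mul_eq_one_right hxyxy] at hgeq)).elim
  suffices hxE : ∀ e ∈ E, e * x = x * e by
    rcases hfix x hx hxE with e | e
    · rw [e, one_mul] at hx2; exact C.ne_one hx2.symm
    · rw [e, hzz] at hx2; exact C.ne_one hx2.symm
  intro e he
  have hconj : e * x * e⁻¹ ∈ R := (Subgroup.mem_normalizer_iff.mp (hER he) x).mp hx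
  have hez : e * z = z * e := C.cm e he
  rcases hroot _ hconj (by rw [show (e * x * e⁻¹) * (e * x * e⁻¹) = e * (x * x) * e⁻¹ by group, hx2, hez, mul_inv_cancel_right]) with h | h
  · exact mul_inv_eq_iff_eq_mul.mp h
  · have h2 : Commute (e ^ 2) x := by
      show e ^ 2 * x = x * e ^ 2
      calc e ^ 2 * x = e * (e * x * e⁻¹) * e := by rw [pow_two]; group
        _ = (e * z) * x * e := by rw [h, mul_assoc e z x]
        _ = z * (e * x * e⁻¹) * e * e := by rw [hez]; group
        _ = x * e ^ 2 := by rw [h, ← mul_assoc z z, hzz, one_mul, pow_two, mul_assoc]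
    obtain ⟨r, hr⟩ := hp.out.odd_of_ne_two C.ne_two
    have h5 : (e ^ 2) ^ (r + 1) = e := by
      rw [← pow_mul, show 2 * (r + 1) = p + 1 by omega, pow_succ, C.ea.pow e he, one_mul]
    have h6 := (h2.pow_left (r + 1)).eq
    rwa [h5] at h6

/-- Weight subgroups of different hyperplanes commute. -/
theorem ortho {H H' : Subgroup G} (hH : H ≤ E) (hH' : H' ≤ E) (hc : Nat.card H * p = Nat.card E)
    (hc' : Nat.card H' * p = Nat.card E) (hne : H ≠ H') :
    ∀ x ∈ ⁅OT z ⊓ Subgroup.centralizer (H : Set G), E⁆,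
    ∀ t ∈ ⁅OT z ⊓ Subgroup.centralizer (H' : Set G), E⁆, x * t = t * x := by
  obtain ⟨h, hhH, hhH'⟩ : ∃ h ∈ H, h ∉ H' := by
    by_contra hno
    push Not at hno
    exact hne (Subgroup.eq_of_le_of_card_ge hno (le_of_eq (Nat.eq_of_mul_eq_mul_right hp.out.pos (hc'.trans hc.symm))))
  obtain ⟨hQ0, hEQ0, hQ0E⟩ := C.comm_self (le_refl (OT z)) C.norm
  obtain ⟨hcomm, -, -⟩ := C.facts hQ0 hEQ0 hQ0E
  obtain ⟨hR', hER', hRE'⟩ := C.comm_self (inf_le_left : OT z ⊓ Subgroup.centralizer (H' : Set G) ≤ OT z) (C.norm_cent hH')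
  intro x hx t ht
  have hxQ : x ∈ ⁅OT z, E⁆ := Subgroup.commutator_mono inf_le_left le_rfl hx
  have hR'C : ⁅OT z ⊓ Subgroup.centralizer (H' : Set G), E⁆ ≤ Subgroup.centralizer (H' : Set G) := by
    rw [Subgroup.commutator_le]
    intro k hk e he
    have he' : e ∈ Subgroup.centralizer (H' : Set G) :=
      Subgroup.mem_centralizer_iff.mpr fun a ha => C.ea.comm a (hH' ha) e he
    exact mul_mem (mul_mem (mul_mem hk.2 he') (inv_mem hk.2)) (inv_mem he')
  have hxH : ∀ a ∈ H, a * x = x * a := by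
    have : ⁅OT z ⊓ Subgroup.centralizer (H : Set G), E⁆ ≤ Subgroup.centralizer (H : Set G) := by
      rw [Subgroup.commutator_le]
      intro k hk e he
      have he' : e ∈ Subgroup.centralizer (H : Set G) :=
        Subgroup.mem_centralizer_iff.mpr fun a ha => C.ea.comm a (hH ha) e he
      exact mul_mem (mul_mem (mul_mem hk.2 he') (inv_mem hk.2)) (inv_mem he')
    exact Subgroup.mem_centralizer_iff.mp (this hx)
  have hle : ⁅⁅OT z ⊓ Subgroup.centralizer (H' : Set G), E⁆, E⁆ ≤ Subgroup.centralizer {x} := by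
    rw [Subgroup.commutator_le]
    intro k hk e he
    obtain ⟨h', hh', i, rfl⟩ := hyp_decomp C.ea hH' hc' (hH hhH) hhH' he
    set g := h ^ i
    have hgE : g ∈ E := E.zpow_mem (hH hhH) i
    have hkh : h' * k = k * h' := Subgroup.mem_centralizer_iff.mp (hR'C hk) h' hh'
    have hg' : h' * g = g * h' := C.ea.comm h' (hH' hh') g hgE
    have hred : ⁅k, h' * g⁆ = k * g * k⁻¹ * g⁻¹ := by
      rw [commutatorElement_def, mul_inv_rev]
      calc k * (h' * g) * k⁻¹ * (g⁻¹ * h'⁻¹) = k * g * (h' * k⁻¹) * (g⁻¹ * h'⁻¹) := by rw [hg']; group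
        _ = k * g * k⁻¹ * (h' * g⁻¹) * h'⁻¹ := by
          rw [(show Commute h' k⁻¹ from (show Commute h' k from hkh).inv_right).eq]; group
        _ = k * g * k⁻¹ * g⁻¹ := by
          rw [(show Commute h' g⁻¹ from (show Commute h' g from hg').inv_right).eq]; group
    refine Subgroup.mem_centralizer_singleton_iff.mpr ?_
    rw [hred]
    set c := ⁅x, k⁆ with hcdef
    have hk0 : k ∈ ⁅OT z, E⁆ := Subgroup.commutator_mono inf_le_left le_rfl hk
    have hck : Commute c k ∧ Commute c g := by
      rcases hcomm x hxQ k hk0 with e | e <;> rw [hcdef, e]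
      · exact ⟨Commute.one_left _, Commute.one_left _⟩
      · exact ⟨(OT_comm C.sq C.ne_one (hR' hk)).symm, (C.cm g hgE).symm⟩
    have hxk : x * k * x⁻¹ = c * k := by rw [hcdef, commutatorElement_def]; group
    have hxg : x * g * x⁻¹ = g := by rw [← hxH g (H.zpow_mem hhH i), mul_inv_cancel_right]
    have key : x * (k * g * k⁻¹ * g⁻¹) * x⁻¹ = k * g * k⁻¹ * g⁻¹ := by
      calc x * (k * g * k⁻¹ * g⁻¹) * x⁻¹ = (x * k * x⁻¹) * (x * g * x⁻¹) * (x * k * x⁻¹)⁻¹ * (x * g * x⁻¹)⁻¹ := by group
        _ = (c * (k * g * k⁻¹)) * c⁻¹ * g⁻¹ := by rw [hxk, hxg]; group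
        _ = k * g * k⁻¹ * g⁻¹ := by
          rw [((hck.1.mul_right hck.2).mul_right hck.1.inv_right).eq, mul_inv_cancel_right]
    calc (k * g * k⁻¹ * g⁻¹) * x = x * (k * g * k⁻¹ * g⁻¹) * x⁻¹ * x := by rw [key]
      _ = x * (k * g * k⁻¹ * g⁻¹) := by group
  rw [← hRE'] at ht
  exact (Subgroup.mem_centralizer_singleton_iff.mp (hle ht)).symm

/-- There are two hyperplanes with nontrivial weight subgroups. -/
theorem two_hyps : ∃ H H' : Subgroup G, H ≤ E ∧ H' ≤ E ∧ Nat.card H * p = Nat.card E ∧ Nat.card H' * p = Nat.card E ∧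
    H ≠ H' ∧ (¬ OT z ⊓ Subgroup.centralizer (H : Set G) ≤ Subgroup.centralizer (E : Set G)) ∧
    ¬ OT z ⊓ Subgroup.centralizer (H' : Set G) ≤ Subgroup.centralizer (E : Set G) := by
  haveI : Fact (Nat.Prime 2) := ⟨Nat.prime_two⟩
  have hfaith : ∀ e ∈ E, OT z ≤ Subgroup.centralizer {e} → e = 1 := fun e he h =>
    faithful_OT C.two C.sq C.ne_one (C.cm e he) (C.coprime_two he)
      fun q hq => (Subgroup.mem_centralizer_singleton_iff.mp (h hq)).symm
  have hE1 : E ≠ ⊥ := fun h => by
    have := C.card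
    rw [h, Subgroup.card_bot] at this
    have := Nat.one_lt_pow (show n ≠ 0 by have := C.three; omega) hp.out.one_lt
    omega
  have hcop := C.coprime_sub (OT_isPGroup z)
  obtain ⟨H, hH, hc, hn⟩ := exists_hyp C.ea hE1 C.norm hcop (L := Subgroup.centralizer (E : Set G)) inf_le_right (by
    intro h
    obtain ⟨⟨e, he⟩, he1⟩ := Subgroup.ne_bot_iff_exists_ne_one.mp hE1
    exact he1 (Subtype.ext (hfaith e he (h.trans (Subgroup.centralizer_le (by simpa using he))))))
  have hH1 : H ≠ ⊥ := fun h => by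
    rw [h, Subgroup.card_bot, one_mul, C.card] at hc
    have : p ^ 1 < p ^ n := Nat.pow_lt_pow_right hp.out.one_lt (by have := C.three; omega)
    rw [pow_one] at this
    omega
  obtain ⟨⟨h, hh⟩, hh1⟩ := Subgroup.ne_bot_iff_exists_ne_one.mp hH1
  obtain ⟨H', hH', hc', hn'⟩ := exists_hyp C.ea hE1 C.norm hcop (L := Subgroup.centralizer {h})
    (inf_le_right.trans (Subgroup.centralizer_le (by simpa using hH hh)))
    (fun hle => hh1 (Subtype.ext (hfaith h (hH hh) hle)))
  refine ⟨H, H', hH, hH', hc, hc', ?_, hn, fun hle => hn' (hle.trans (Subgroup.centralizer_le (by simpa using hH hh)))⟩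
  intro e
  exact hn' (inf_le_right.trans (Subgroup.centralizer_le (by simpa using e ▸ hh)))

end Ctx

end CfsgLib.PairRank
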