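/-
No group is of characteristic `2` and characteristic `p` type with a `p`-group of rank three in a `2`-local.
-/
import Cfsg.Agent.Lib.PairRank.Weights

set_option autoImplicit false

namespace CfsgLib.PairRank

open Cfsg
open scoped commutatorElement

universe u
variable {G : Type u} [Group G] [Finite G] {p : ℕ} [hp : Fact p.Prime]

omit [Finite G] in
theorem conj_eq_of_comm {a x : G} (h : a * x = x * a) : a * x * a⁻¹ = x := by rw [h, mul_inv_cancel_right]

omit [Finite G] in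
theorem comm_of_conj {a x : G} (h : a * x * a⁻¹ = x) : a * x = x * a := mul_inv_eq_iff_eq_mul.mp h

theorem false_of_ctx {n : ℕ} {z : G} {E : Subgroup G} (C : Ctx p n z E) : False := by
  haveI : Fact (Nat.Prime 2) := ⟨Nat.prime_two⟩
  obtain ⟨H1, H2, hH1, hH2, hc1, hc2, hne, hn1, hn2⟩ := C.two_hyps
  obtain ⟨x1, hx1, y1, hy1, hx11, hy11, hxy1⟩ := C.pair hH1 hn1
  obtain ⟨x2, hx2, y2, hy2, hx22, hy22, hxy2⟩ := C.pair hH2 hn2
  have hor := C.ortho hH1 hH2 hc1 hc2 hne
  set E00 := H1 ⊓ H2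
  have hE00 : E00 ≤ E := inf_le_left.trans hH1
  have hE00c : Nat.card E00 * p ^ 2 = p ^ n := C.card ▸ inf_card C.ea hH1 hH2 hc1 hc2 hne
  obtain ⟨i00, hi00⟩ := (C.ea.mono hE00).exists_card
  have hi : i00 + 2 = n := Nat.pow_right_injective hp.out.two_le (by
    show p ^ (i00 + 2) = p ^ n
    rw [pow_add, ← hi00, hE00c])
  have hE001 : E00 ≠ ⊥ := fun h => by
    rw [h, Subgroup.card_bot] at hi00
    have := C.three
    have := Nat.one_lt_pow (show i00 ≠ 0 by omega) hp.out.one_lt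
    omega
  -- membership facts
  have hW : ∀ {H : Subgroup G}, H ≤ E → ⁅OT z ⊓ Subgroup.centralizer (H : Set G), E⁆ ≤ OT z ⊓ Subgroup.centralizer (H : Set G) :=
    fun hH => CfsgLib.commutator_le_of_le_normalizer (C.norm_cent hH)
  have m1 : ∀ {g : G}, g ∈ ⁅OT z ⊓ Subgroup.centralizer (H1 : Set G), E⁆ → g ∈ OT z ∧ ∀ e ∈ E00, e * g = g * e :=
    fun hg => ⟨(hW hH1 hg).1, fun e he => Subgroup.mem_centralizer_iff.mp (hW hH1 hg).2 e he.1⟩
  have m2 : ∀ {g : G}, g ∈ ⁅OT z ⊓ Subgroup.centralizer (H2 : Set G), E⁆ → g ∈ OT z ∧ ∀ e ∈ E00, e * g = g * e :=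
    fun hg => ⟨(hW hH2 hg).1, fun e he => Subgroup.mem_centralizer_iff.mp (hW hH2 hg).2 e he.2⟩
  have hzz : z * z = 1 := by rw [← pow_two]; exact C.sq
  have cz : ∀ {g : G}, g ∈ OT z → g * z = z * g := fun hg => OT_comm C.sq C.ne_one hg
  set u := x1 * x2 with hu
  set v := y1 * y2 with hv
  have huQ : u ∈ OT z := mul_mem (m1 hx1).1 (m2 hx2).1
  have hvQ : v ∈ OT z := mul_mem (m1 hy1).1 (m2 hy2).1
  have hu2 : u * u = 1 := by
    calc u * u = x1 * (x2 * x1) * x2 := by simp only [hu, mul_assoc]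
      _ = (x1 * x1) * (x2 * x2) := by rw [← hor x1 hx1 x2 hx2]; simp only [mul_assoc]
      _ = 1 := by rw [hx11, hx22, hzz]
  have hv2 : v * v = 1 := by
    calc v * v = y1 * (y2 * y1) * y2 := by simp only [hv, mul_assoc]
      _ = (y1 * y1) * (y2 * y2) := by rw [← hor y1 hy1 y2 hy2]; simp only [mul_assoc]
      _ = 1 := by rw [hy11, hy22, hzz]
  have huv : u * v = v * u := by
    calc u * v = x1 * (x2 * y1) * y2 := by simp only [hu, hv, mul_assoc]
      _ = (x1 * y1) * (x2 * y2) := by rw [← hor y1 hy1 x2 hx2]; simp only [mul_assoc]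
      _ = z * (y1 * x1) * (z * (y2 * x2)) := by rw [hxy1, hxy2]
      _ = z * ((y1 * x1) * z) * (y2 * x2) := by simp only [mul_assoc]
      _ = (z * z) * (y1 * (x1 * y2) * x2) := by rw [cz (mul_mem (m1 hy1).1 (m1 hx1).1)]; simp only [mul_assoc]
      _ = v * u := by rw [hzz, one_mul, hor x1 hx1 y2 hy2]; simp only [hu, hv, mul_assoc]
  have hux : u * x1 = x1 * u := by rw [hu, mul_assoc, ← hor x1 hx1 x2 hx2]
  have huy : u * y1 = z * (y1 * u) := by
    calc u * y1 = x1 * (y1 * x2) := by rw [hu, mul_assoc, hor y1 hy1 x2 hx2]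
      _ = z * (y1 * u) := by rw [← mul_assoc, hxy1, hu]; simp only [mul_assoc]
  have hvx : v * x1 = z * (x1 * v) := by
    have : y1 * x1 = z * (x1 * y1) := by rw [hxy1, ← mul_assoc, hzz, one_mul]
    calc v * x1 = y1 * (x1 * y2) := by rw [hv, mul_assoc, hor x1 hx1 y2 hy2]
      _ = z * (x1 * v) := by rw [← mul_assoc, this, hv]; simp only [mul_assoc]
  have hEAu : EA 2 (Subgroup.zpowers z ⊔ Subgroup.zpowers u) :=
    ((ea_z C.sq).extend (by rw [pow_two]; exact hu2) (fun a ha => by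
      rcases mem_z C.sq ha with e | e <;> rw [e]
      · simp
      · exact (cz huQ).symm) (fun h => C.ne_one (by
      rcases mem_z C.sq h with e | e <;> rw [e] at huy
      · rw [one_mul, mul_one] at huy
        exact mul_eq_right.mp huy.symm
      · exact mul_eq_left.mp (mul_left_cancel huy).symm))).1
  have hEAU : EA 2 (Subgroup.zpowers z ⊔ Subgroup.zpowers u ⊔ Subgroup.zpowers v) := by
    refine (hEAu.extend (by rw [pow_two]; exact hv2) (fun a ha => comm_sup (fun b hb => ?_) huv a ha) ?_).1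
    · rcases mem_z C.sq hb with e | e <;> rw [e]
      · simp
      · exact (cz hvQ).symm
    · intro h
      have h1 : v * x1 = x1 * v := comm_sup (A := Subgroup.zpowers z) (fun b hb => by
        rcases mem_z C.sq hb with e | e <;> rw [e]
        · simp
        · exact (cz (m1 hx1).1).symm) hux v h
      rw [h1] at hvx
      exact C.ne_one (mul_eq_right.mp hvx.symm)
  set U := Subgroup.zpowers z ⊔ Subgroup.zpowers u ⊔ Subgroup.zpowers v
  have hzU : z ∈ U := Subgroup.mem_sup_left (Subgroup.mem_sup_left (Subgroup.mem_zpowers z))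
  have huU : u ∈ U := Subgroup.mem_sup_left (Subgroup.mem_sup_right (Subgroup.mem_zpowers u))
  have hvU : v ∈ U := Subgroup.mem_sup_right (Subgroup.mem_zpowers v)
  have hzE : ∀ e ∈ E00, e * z = z * e := fun e he => C.cm e (hE00 he)
  have hQE : ∀ g ∈ U, ∀ e ∈ E00, e * g = g * e := by
    have : U ≤ Subgroup.centralizer (E00 : Set G) := by
      refine sup_le (sup_le ?_ ?_) ?_ <;> rw [Subgroup.zpowers_le, Subgroup.mem_centralizer_iff]
      · exact hzE
      · exact fun e he => (Commute.mul_right (show Commute e x1 from (m1 hx1).2 e he) (show Commute e x2 from (m2 hx2).2 e he)).eq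
      · exact fun e he => (Commute.mul_right (show Commute e y1 from (m1 hy1).2 e he) (show Commute e y2 from (m2 hy2).2 e he)).eq
    exact fun g hg => Subgroup.mem_centralizer_iff.mp (this hg)
  -- the `p`-core of the centraliser of `E00`
  set P := opN p E00 ⊓ Subgroup.centralizer (E00 : Set G)
  have hPp : IsPGroup p P := opN_isPGroup.to_le inf_le_left
  obtain ⟨D, hDP, hDN, hDp, hD2, hDf⟩ := exists_detect C.ne_two hPp
  have hcent : ∀ g : G, (∀ e ∈ E00, e * g = g * e) → g ∈ Subgroup.normalizer (P : Set G) := fun g hg =>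
    centralizer_le_normalizer_inf (Subgroup.mem_centralizer_iff.mpr hg)
  have hcoz : (orderOf z).Coprime p := by
    rw [orderOf_eq_prime C.sq C.ne_one]; exact (Nat.coprime_primes Nat.prime_two hp.out).mpr C.ne_two.symm
  have hDz : ¬ D ≤ Subgroup.centralizer {z} := fun hle => C.ne_one
    (faithful_local C.loc (C.ea.mono hE00).isPGroup hE001 hcoz (fun e he => (hzE e he).symm)
      (hDf z (hcent z hzE) hcoz fun d hd => (Subgroup.mem_centralizer_singleton_iff.mp (hle hd)).symm))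
  have hUD : U ≤ Subgroup.normalizer (D : Set G) := fun g hg => hDN (hcent g (hQE g hg))
  have hcopUD : (Nat.card U).Coprime (Nat.card D) := by
    obtain ⟨i, hi⟩ := hEAU.exists_card
    obtain ⟨j, hj⟩ := IsPGroup.iff_card.mp (hPp.to_le hDP)
    rw [hi, hj]
    exact Nat.Coprime.pow _ _ ((Nat.coprime_primes Nat.prime_two hp.out).mpr C.ne_two.symm)
  obtain ⟨U0, hU0, hU0c, hU0n⟩ := exists_hyp hEAU (fun h => C.ne_one (Subgroup.mem_bot.mp (h ▸ hzU))) hUD hcopUD
    (L := Subgroup.centralizer {z}) (inf_le_right.trans (Subgroup.centralizer_le (by simpa using hzU))) hDz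
  obtain ⟨y, ⟨hyD, hyU0⟩, hyz⟩ := SetLike.not_le_iff_exists.mp hU0n
  have hzU0 : z ∉ U0 := fun h => hyz (Subgroup.mem_centralizer_singleton_iff.mpr (Subgroup.mem_centralizer_iff.mp hyU0 z h).symm)
  have hzx : z * x1 = x1 * z := (cz (m1 hx1).1).symm
  have hzy : z * y1 = y1 * z := (cz (m1 hy1).1).symm
  -- representatives in the complement
  obtain ⟨u', hu'0, i, hu'⟩ := hyp_decomp hEAU hU0 hU0c hzU hzU0 huU
  obtain ⟨v', hv'0, j, hv'⟩ := hyp_decomp hEAU hU0 hU0c hzU hzU0 hvU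
  have hu'x : Commute u' x1 := by
    rw [show u' = u * (z ^ i)⁻¹ by rw [hu', mul_inv_cancel_right]]
    exact Commute.mul_left hux ((show Commute z x1 from hzx).zpow_left i).inv_left
  have hu'y : u' * y1 = z * (y1 * u') := by
    rw [show u' = u * (z ^ i)⁻¹ by rw [hu', mul_inv_cancel_right], mul_assoc,
      ((show Commute z y1 from hzy).zpow_left i).inv_left.eq, ← mul_assoc, huy]
    simp only [mul_assoc]
  have hv'x : v' * x1 = z * (x1 * v') := by
    rw [show v' = v * (z ^ j)⁻¹ by rw [hv', mul_inv_cancel_right], mul_assoc,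
      ((show Commute z x1 from hzx).zpow_left j).inv_left.eq, ← mul_assoc, hvx]
    simp only [mul_assoc]
  have hu'U := hU0 hu'0
  have hv'U := hU0 hv'0
  have hu'z : u' * z = z * u' := hEAU.comm u' hu'U z hzU
  have hv'z : v' * z = z * v' := hEAU.comm v' hv'U z hzU
  have hu'1 : u' ≠ 1 := fun h => by
    rw [h, one_mul, mul_one] at hu'y
    exact C.ne_one (mul_eq_right.mp hu'y.symm)
  have hUQ : U ≤ OT z := sup_le (sup_le (Subgroup.zpowers_le.mpr (self_mem_OT C.sq)) (Subgroup.zpowers_le.mpr huQ))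
    (Subgroup.zpowers_le.mpr hvQ)
  -- the inverted elements
  set r := y⁻¹ * (z * y * z) with hr
  have hzinv : z⁻¹ = z := inv_eq_of_mul_eq_one_right hzz
  have hzyz : z * y * z ∈ D := by
    have := (Subgroup.mem_normalizer_iff.mp (hUD hzU) y).mp hyD
    rwa [hzinv] at this
  have hrD : r ∈ D := mul_mem (inv_mem hyD) hzyz
  have hzr : z * r * z⁻¹ = r⁻¹ := by
    rw [hzinv, hr]
    calc z * (y⁻¹ * (z * y * z)) * z = z * y⁻¹ * z * y * (z * z) := by simp only [mul_assoc]
      _ = z * y⁻¹ * z * y := by rw [hzz, mul_one]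
      _ = (y⁻¹ * (z * y * z))⁻¹ := by simp only [mul_inv_rev, inv_inv, hzinv, mul_assoc]
  have hr1 : r ≠ 1 := by
    intro h
    apply hyz
    rw [hr, inv_mul_eq_one] at h
    refine Subgroup.mem_centralizer_singleton_iff.mpr ?_
    calc y * z = z * y * z * z := by rw [← h]
      _ = z * y := by rw [mul_assoc (z * y), hzz, mul_one]
  have hrp : r ^ p = 1 := hDp r hrD
  have hy0 : ∀ g ∈ U0, g * y = y * g := Subgroup.mem_centralizer_iff.mp hyU0
  have hrU0 : ∀ g ∈ U0, Commute g r := fun g hg =>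
    (Commute.inv_right (hy0 g hg)).mul_right
      (((show Commute g z from hEAU.comm g (hU0 hg) z hzU).mul_right (hy0 g hg)).mul_right
        (show Commute g z from hEAU.comm g (hU0 hg) z hzU))
  set r' := x1 * r * x1⁻¹ with hr'
  have hr'D : r' ∈ D := (Subgroup.mem_normalizer_iff.mp (hDN (hcent x1 (m1 hx1).2)) r).mp hrD
  have hzr' : z * r' * z⁻¹ = r'⁻¹ := by
    calc z * r' * z⁻¹ = (z * x1) * r * (z * x1)⁻¹ := by rw [hr']; group
      _ = x1 * (z * r * z⁻¹) * x1⁻¹ := by rw [hzx]; group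
      _ = r'⁻¹ := by rw [hzr, hr']; group
  have hu'r : Commute u' r := hrU0 u' hu'0
  have hu'r' : Commute u' r' := (hu'x.mul_right hu'r).mul_right hu'x.inv_right
  have hv'r : v' * r * v'⁻¹ = r := conj_eq_of_comm (hrU0 v' hv'0).eq
  have hv'r' : v' * r' * v'⁻¹ = r'⁻¹ := by
    calc v' * r' * v'⁻¹ = (v' * x1) * r * (v' * x1)⁻¹ := by rw [hr']; group
      _ = z * x1 * (v' * r * v'⁻¹) * x1⁻¹ * z⁻¹ := by rw [hv'x]; group
      _ = z * r' * z⁻¹ := by rw [hv'r, hr']; group
      _ = r'⁻¹ := hzr'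
  have hrP : ∀ {g : G}, g ∈ D → ∀ e ∈ E00, e * g = g * e := fun hg e he =>
    Subgroup.mem_centralizer_iff.mp (hDP hg).2 e he
  have hrr' : r * r' = r' * r := by
    set c := ⁅r, r'⁆ with hc
    have hcc : ∀ d ∈ D, c * d = d * c := hD2 r hrD r' hr'D
    have hzc : z * c * z⁻¹ = c := by
      rw [hc, show z * ⁅r, r'⁆ * z⁻¹ = ⁅z * r * z⁻¹, z * r' * z⁻¹⁆ by simp only [commutatorElement_def]; group, hzr, hzr']
      calc ⁅r⁻¹, r'⁻¹⁆ = (r' * r)⁻¹ * ⁅r, r'⁆ * (r' * r) := by simp only [commutatorElement_def]; group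
        _ = (r' * r)⁻¹ * ((r' * r) * ⁅r, r'⁆) := by rw [mul_assoc, hcc _ (mul_mem hr'D hrD)]
        _ = ⁅r, r'⁆ := inv_mul_cancel_left _ _
    have hcP : c ∈ D := mul_mem (mul_mem (mul_mem hrD hr'D) (inv_mem hrD)) (inv_mem hr'D)
    have hvc : v' * c * v'⁻¹ = c := by
      have hg1 : v' * c * v'⁻¹ * c⁻¹ ∈ P := mul_mem
        ((Subgroup.mem_normalizer_iff.mp (hcent v' (hQE v' hv'U)) c).mp (hDP hcP)) (inv_mem (hDP hcP))
      have hg2 : v' * c * v'⁻¹ * c⁻¹ ∈ OT z := by
        rw [show v' * c * v'⁻¹ * c⁻¹ = v' * (c * v'⁻¹ * c⁻¹) by group]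
        exact mul_mem (hUQ hv'U) ((Subgroup.mem_normalizer_iff.mp
          (norm_OT C.sq C.ne_one (comm_of_conj hzc).symm) _).mp (inv_mem (hUQ hv'U)))
      exact mul_inv_eq_one.mp (coprime_meet hp.out Nat.prime_two C.ne_two hPp (OT_isPGroup z) hg1 hg2)
    have hvc' : v' * c * v'⁻¹ = c⁻¹ := by
      rw [hc, show v' * ⁅r, r'⁆ * v'⁻¹ = ⁅v' * r * v'⁻¹, v' * r' * v'⁻¹⁆ by simp only [commutatorElement_def]; group, hv'r, hv'r']
      calc ⁅r, r'⁻¹⁆ = r'⁻¹ * ⁅r, r'⁆⁻¹ * r' := by simp only [commutatorElement_def]; group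
        _ = r'⁻¹ * (r' * ⁅r, r'⁆⁻¹) := by rw [mul_assoc, (show Commute c r' from hcc r' hr'D).inv_left.eq]
        _ = ⁅r, r'⁆⁻¹ := inv_mul_cancel_left _ _
    have h2 : c ^ 2 = 1 := by rw [pow_two, ← mul_inv_cancel c]; congr 1; exact hvc.symm.trans hvc'
    have hc1 : c = 1 := orderOf_eq_one_iff.mp (Nat.eq_one_of_dvd_coprimes
      ((Nat.coprime_primes Nat.prime_two hp.out).mpr C.ne_two.symm) (orderOf_dvd_of_pow_eq_one h2)
      (orderOf_dvd_of_pow_eq_one (hDp c hcP)))
    exact commutatorElement_eq_one_iff_mul_comm.mp hc1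
  -- the new maximal rank group
  have hsq_eq : ∀ {g : G}, g ^ p = 1 → g = g⁻¹ → g = 1 := by
    intro g hg hgi
    have h2 : g ^ 2 = 1 := by rw [pow_two]; nth_rewrite 2 [hgi]; exact mul_inv_cancel g
    exact orderOf_eq_one_iff.mp (Nat.eq_one_of_dvd_coprimes ((Nat.coprime_primes Nat.prime_two hp.out).mpr C.ne_two.symm)
      (orderOf_dvd_of_pow_eq_one h2) (orderOf_dvd_of_pow_eq_one hg))
  have hrE : r ∉ E00 := fun h => hr1 (hsq_eq hrp (by
    rw [← hzr]; exact (conj_eq_of_comm (hzE r h).symm).symm))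
  obtain ⟨hF1, hF1c⟩ := (C.ea.mono hE00).extend hrp (fun e he => hrP hrD e he) hrE
  have hr'F1 : r' ∉ E00 ⊔ Subgroup.zpowers r := by
    intro h
    have hv'c : ∀ g ∈ E00 ⊔ Subgroup.zpowers r, g * v' = v' * g :=
      comm_sup (fun e he => hQE v' hv'U e he) (hrU0 v' hv'0).eq.symm
    have hr'1 : r' ≠ 1 := fun h => hr1 (conj_eq_one_iff.mp h)
    refine hr'1 (hsq_eq (hDp r' hr'D) ?_)
    rw [← hv'r']
    exact (conj_eq_of_comm (hv'c r' h).symm).symm
  obtain ⟨hF, hFc⟩ := hF1.extend (hDp r' hr'D) (comm_sup (fun e he => hrP hr'D e he) hrr') hr'F1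
  set F := E00 ⊔ Subgroup.zpowers r ⊔ Subgroup.zpowers r'
  have hrF : r ∈ F := Subgroup.mem_sup_left (Subgroup.mem_sup_right (Subgroup.mem_zpowers r))
  have hE0F : E00 ≤ F := le_sup_left.trans le_sup_left
  have hFcard : Nat.card F = p ^ n := by
    rw [hFc, hF1c, hi00, ← hi, pow_add, pow_two]; ring
  have hu'E : ∀ e ∈ E00, e * u' = u' * e := hQE u' hu'U
  have C' : Ctx p n u' F :=
    { ne_two := C.ne_two, loc := C.loc, two := C.two, bound := C.bound, three := C.three, ea := hF, card := hFcard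
      sq := hEAU.pow u' hu'U, ne_one := hu'1
      cm := comm_sup (comm_sup hu'E hu'r.eq.symm) hu'r'.eq.symm }
  have hF1' : F ≠ ⊥ := fun h => hr1 (Subgroup.mem_bot.mp (h ▸ hrF))
  -- a weight hyperplane avoiding `r`
  obtain ⟨H, hHF, hHc, hHn⟩ := exists_hyp hF hF1' C'.norm (C'.coprime_sub (OT_isPGroup u'))
    (L := Subgroup.centralizer {r}) (inf_le_right.trans (Subgroup.centralizer_le (by simpa using hrF))) (by
      intro h
      exact hr1 (faithful_OT C.two C'.sq C'.ne_one (C'.cm r hrF) (C'.coprime_two hrF)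
        fun q hq => (Subgroup.mem_centralizer_singleton_iff.mp (h hq)).symm))
  have hrH : r ∉ H := fun h => hHn (inf_le_right.trans (Subgroup.centralizer_le (by simpa using h)))
  have hPQ : OT u' ⊓ Subgroup.centralizer (E00 : Set G) ≤ Subgroup.centralizer {r} := by
    rintro q ⟨hq, hqE⟩
    refine Subgroup.mem_centralizer_singleton_iff.mpr ?_
    have hg1 : r * q * r⁻¹ * q⁻¹ ∈ P := by
      rw [show r * q * r⁻¹ * q⁻¹ = r * (q * r⁻¹ * q⁻¹) by group]
      exact mul_mem (hDP hrD) ((Subgroup.mem_normalizer_iff.mp (hcent q (Subgroup.mem_centralizer_iff.mp hqE)) _).mp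
        (inv_mem (hDP hrD)))
    have hg2 : r * q * r⁻¹ * q⁻¹ ∈ OT u' :=
      mul_mem ((Subgroup.mem_normalizer_iff.mp (norm_OT C'.sq C'.ne_one (C'.cm r hrF)) q).mp hq) (inv_mem hq)
    exact (comm_of_conj (mul_inv_eq_one.mp (coprime_meet hp.out Nat.prime_two C.ne_two hPp (OT_isPGroup u') hg1 hg2))).symm
  obtain ⟨e0, he0, he0H⟩ : ∃ e ∈ E00, e ∉ H := by
    by_contra hno
    push Not at hno
    exact hHn (le_trans (inf_le_inf_left _ (Subgroup.centralizer_le hno)) hPQ)
  -- the involution moving the hyperplane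
  set d := v' * z with hd
  have hdd : d * d = 1 := by
    rw [hd, mul_assoc, ← mul_assoc z v' z, ← hv'z, mul_assoc v' z z, hzz, mul_one, ← pow_two, hEAU.pow v' hv'U]
  have hdinv : d⁻¹ = d := inv_eq_of_mul_eq_one_right hdd
  have hdU : d ∈ U := mul_mem hv'U hzU
  have hdu : d * u' = u' * d := hEAU.comm d hdU u' hu'U
  have hdr : d * r * d⁻¹ = r⁻¹ := by
    calc d * r * d⁻¹ = v' * (z * r * z⁻¹) * v'⁻¹ := by rw [hd]; group
      _ = (v' * r * v'⁻¹)⁻¹ := by rw [hzr]; group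
      _ = r⁻¹ := by rw [hv'r]
  have hdr' : d * r' * d⁻¹ = r' := by
    calc d * r' * d⁻¹ = v' * (z * r' * z⁻¹) * v'⁻¹ := by rw [hd]; group
      _ = (v' * r' * v'⁻¹)⁻¹ := by rw [hzr']; group
      _ = r' := by rw [hv'r', inv_inv]
  have hdE : ∀ e ∈ E00, d * e * d⁻¹ = e := fun e he => conj_eq_of_comm (hQE d hdU e he).symm
  set φ := (MulAut.conj d).toMonoidHom
  have hφ : ∀ g, φ g = d * g * d⁻¹ := fun g => rfl
  have hφφ : ∀ g, φ (φ g) = g := fun g => by
    rw [hφ, hφ, hdinv]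
    calc d * (d * g * d) * d = (d * d) * g * (d * d) := by group
      _ = g := by rw [hdd, one_mul, mul_one]
  have hFd : ∀ f ∈ F, φ f ∈ F ∧ f * (φ f)⁻¹ ∈ Subgroup.zpowers r := by
    have hle : F ≤ Subgroup.comap φ F := by
      refine sup_le (sup_le ?_ ?_) ?_
      · intro e he; show φ e ∈ F; rw [hφ, hdE e he]; exact hE0F he
      · rw [Subgroup.zpowers_le]; show φ r ∈ F; rw [hφ, hdr]; exact inv_mem hrF
      · rw [Subgroup.zpowers_le]; show φ r' ∈ F; rw [hφ, hdr']; exact Subgroup.mem_sup_right (Subgroup.mem_zpowers r')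
    intro f hf
    refine ⟨hle hf, ?_⟩
    obtain ⟨g, hg, j2, rfl⟩ := exists_mul_zpow (comm_sup (fun e he => hrP hr'D e he) hrr') hf
    obtain ⟨e, he, i2, rfl⟩ := exists_mul_zpow (fun e he => hrP hrD e he) hg
    rw [map_mul, map_mul, map_zpow, map_zpow, hφ e, hφ r, hφ r', hdE e he, hdr, hdr', inv_zpow]
    refine ⟨i2 + i2, ?_⟩
    show r ^ (i2 + i2) = _
    rw [mul_inv_rev, mul_inv_rev, inv_inv, zpow_add,
      show e * r ^ i2 * r' ^ j2 * ((r' ^ j2)⁻¹ * (r ^ i2 * e⁻¹)) = e * (r ^ i2 * r ^ i2) * e⁻¹ by group]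
    have h5 : Commute e r := hrP hrD e he
    rw [((h5.zpow_right i2).mul_right (h5.zpow_right i2)).eq, mul_inv_cancel_right]
  set H' := H.map φ with hH'
  have hH'F : H' ≤ F := by rintro _ ⟨g, hg, rfl⟩; exact (hFd g (hHF hg)).1
  have hH'c : Nat.card H' * p = Nat.card F := by
    rw [hH', Subgroup.card_map_of_injective (MulAut.conj d).injective, hHc]
  have hHH' : H ≠ H' := by
    intro e
    obtain ⟨h, hh, a, ha⟩ := hyp_decomp hF hHF hHc hrF hrH (hE0F he0)
    have h1 : φ h ∈ H := e.symm ▸ Subgroup.mem_map_of_mem φ hh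
    have h2 : φ h = e0 * r ^ a := by
      rw [show h = e0 * (r ^ a)⁻¹ by rw [ha, mul_inv_cancel_right], map_mul, map_inv, map_zpow, hφ e0, hφ r, hdE e0 he0, hdr,
        inv_zpow, inv_inv]
    have h3 : e0 * e0 ∈ H := by
      have h5 : Commute e0 (r ^ a) := (show Commute e0 r from hrP hrD e0 he0).zpow_right a
      have h4 := mul_mem hh h1
      rw [h2, show h = e0 * (r ^ a)⁻¹ by rw [ha, mul_inv_cancel_right]] at h4
      rwa [show e0 * (r ^ a)⁻¹ * (e0 * r ^ a) = e0 * e0 by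
        rw [mul_assoc, ← mul_assoc (r ^ a)⁻¹, ← h5.inv_right.eq, mul_assoc e0 (r ^ a)⁻¹, inv_mul_cancel, mul_one]] at h4
    apply he0H
    obtain ⟨k, hk⟩ := hp.out.odd_of_ne_two C.ne_two
    have h6 : e0 = (e0 * e0) ^ (k + 1) := by
      rw [← pow_two, ← pow_mul, show 2 * (k + 1) = p + 1 by omega, pow_succ, hF.pow e0 (hE0F he0), one_mul]
    rw [h6]
    exact pow_mem h3 _
  set K := H ⊓ H'
  have hKc : ∀ k ∈ K, d * k = k * d := by
    intro k hk
    obtain ⟨g, hg, hgk⟩ := hk.2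
    have hφk : φ k ∈ H := by rw [← hgk, hφφ]; exact hg
    obtain ⟨-, i3, hi3⟩ := hFd k (hHF hk.1)
    have hmem : k * (φ k)⁻¹ ∈ H := mul_mem hk.1 (inv_mem hφk)
    have h1 : k * (φ k)⁻¹ = 1 := by
      rw [← show r ^ i3 = k * (φ k)⁻¹ from hi3] at hmem ⊢
      by_contra h
      exact hrH (mem_of_zpow_mem hrp h hmem)
    exact comm_of_conj (mul_inv_eq_one.mp h1).symm
  obtain ⟨x, hx, y0, hy0', hxx, hyy, hxy⟩ := C'.pair hHF (fun h => hHn (h.trans (Subgroup.centralizer_le (by simpa using hrF))))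
  have hQd : ∀ q ∈ OT u', φ q ∈ OT u' := fun q hq => (Subgroup.mem_normalizer_iff.mp (norm_OT C'.sq C'.ne_one hdu) q).mp hq
  have hmap : ∀ g ∈ ⁅OT u' ⊓ Subgroup.centralizer (H : Set G), F⁆, φ g ∈ ⁅OT u' ⊓ Subgroup.centralizer (H' : Set G), F⁆ := by
    intro g hg
    have := Subgroup.mem_map_of_mem φ hg
    rw [Subgroup.map_commutator] at this
    refine Subgroup.commutator_mono ?_ ?_ this
    · rintro _ ⟨q, ⟨hq1, hq2⟩, rfl⟩
      refine ⟨hQd q hq1, Subgroup.mem_centralizer_iff.mpr ?_⟩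
      rintro _ ⟨h, hh, rfl⟩
      rw [← map_mul, ← map_mul, Subgroup.mem_centralizer_iff.mp hq2 h hh]
    · rintro _ ⟨f, hf, rfl⟩
      exact (hFd f hf).1
  have hor' := C'.ortho hHF hH'F hHc hH'c hHH'
  have hW' : ∀ {H : Subgroup G}, H ≤ F → ⁅OT u' ⊓ Subgroup.centralizer (H : Set G), F⁆ ≤ OT u' ⊓ Subgroup.centralizer (H : Set G) :=
    fun hH => CfsgLib.commutator_le_of_le_normalizer (C'.norm_cent hH)
  have huu : u' * u' = 1 := by rw [← pow_two]; exact C'.sq
  set x' := φ x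
  set y' := φ y0
  have hxQ := (hW' hHF hx).1
  have hyQ := (hW' hHF hy0').1
  have hx'Q := hQd x hxQ
  have hy'Q := hQd y0 hyQ
  have cu : ∀ {g : G}, g ∈ OT u' → g * u' = u' * g := fun hg => OT_comm C'.sq C'.ne_one hg
  have hφu : φ u' = u' := by rw [hφ, hdu, mul_inv_cancel_right]
  have hxx' : x' * x' = u' := by rw [← map_mul, hxx, hφu]
  have hyy' : y' * y' = u' := by rw [← map_mul, hyy, hφu]
  have hxy' : x' * y' = u' * (y' * x') := by rw [← map_mul, hxy, map_mul, map_mul, hφu]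
  have oxx : x * x' = x' * x := hor' x hx x' (hmap x hx)
  have oxy : x * y' = y' * x := hor' x hx y' (hmap y0 hy0')
  have oyx : y0 * x' = x' * y0 := hor' y0 hy0' x' (hmap x hx)
  have oyy : y0 * y' = y' * y0 := hor' y0 hy0' y' (hmap y0 hy0')
  set t := x * x' with ht
  set t' := y0 * y' with ht'
  have htt : t * t = 1 := by
    calc t * t = x * (x' * x) * x' := by simp only [ht, mul_assoc]
      _ = (x * x) * (x' * x') := by rw [← oxx]; simp only [ht, mul_assoc]
      _ = 1 := by rw [hxx, hxx', huu]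
  have htt' : t' * t' = 1 := by
    calc t' * t' = y0 * (y' * y0) * y' := by simp only [ht', mul_assoc]
      _ = (y0 * y0) * (y' * y') := by rw [← oyy]; simp only [ht', mul_assoc]
      _ = 1 := by rw [hyy, hyy', huu]
  have htc : t * t' = t' * t := by
    calc t * t' = x * (x' * y0) * y' := by simp only [ht, ht', mul_assoc]
      _ = (x * y0) * (x' * y') := by rw [← oyx]; simp only [mul_assoc]
      _ = u' * (y0 * x) * (u' * (y' * x')) := by rw [hxy, hxy']
      _ = u' * ((y0 * x) * u') * (y' * x') := by simp only [mul_assoc]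
      _ = (u' * u') * (y0 * (x * y') * x') := by rw [cu (mul_mem hyQ hxQ)]; simp only [mul_assoc]
      _ = t' * t := by rw [huu, one_mul, oxy]; simp only [ht, ht', mul_assoc]
  have hty : t * y0 = u' * (y0 * t) := by
    calc t * y0 = x * (y0 * x') := by rw [ht, mul_assoc, oyx]
      _ = u' * (y0 * t) := by rw [← mul_assoc, hxy, ht]; simp only [mul_assoc]
  have ht'y : t' * y0 = y0 * t' := by rw [ht', mul_assoc, ← oyy]
  have ht'x : x * t' = u' * (t' * x) := by
    calc x * t' = u' * (y0 * (x * y')) := by rw [ht', ← mul_assoc, hxy]; simp only [mul_assoc]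
      _ = u' * (t' * x) := by rw [oxy, ht']; simp only [mul_assoc]
  have htx : t * x = x * t := by rw [ht, mul_assoc, ← oxx]
  have htQ : t ∈ OT u' := mul_mem hxQ hx'Q
  have ht'Q : t' ∈ OT u' := mul_mem hyQ hy'Q
  obtain ⟨hU1, hU1c⟩ := (ea_z C'.sq).extend (by rw [pow_two]; exact htt) (fun a ha => by
    rcases mem_z C'.sq ha with e | e <;> rw [e]
    · simp
    · exact (cu htQ).symm) (fun h => by
    have e : t * y0 = y0 * t := by
      rcases mem_z C'.sq h with e | e <;> rw [e]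
      · simp
      · exact (cu hyQ).symm
    rw [e] at hty
    exact C'.ne_one (mul_eq_right.mp hty.symm))
  obtain ⟨hU2, hU2c⟩ := hU1.extend (by rw [pow_two]; exact htt')
    (comm_sup (fun a ha => by
      rcases mem_z C'.sq ha with e | e <;> rw [e]
      · simp
      · exact (cu ht'Q).symm) htc) (fun h => by
    have e : t' * x = x * t' := comm_sup (A := Subgroup.zpowers u') (fun a ha => by
      rcases mem_z C'.sq ha with e | e <;> rw [e]
      · simp
      · exact (cu hxQ).symm) htx t' h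
    rw [← e] at ht'x
    exact C'.ne_one (mul_eq_right.mp ht'x.symm))
  have hdt : t * d = d * t := by
    have : φ t = t := by rw [ht, map_mul, hφφ]; exact oxx.symm
    exact (comm_of_conj this).symm
  have hdt' : t' * d = d * t' := by
    have : φ t' = t' := by rw [ht', map_mul, hφφ]; exact oyy.symm
    exact (comm_of_conj this).symm
  have hdQ : d ∉ OT u' := by
    intro h
    have hrr2 : r ^ 2 ∈ OT u' := by
      have h1 : r * d * r⁻¹ * d⁻¹ ∈ OT u' :=
        mul_mem ((Subgroup.mem_normalizer_iff.mp (norm_OT C'.sq C'.ne_one (C'.cm r hrF)) d).mp h) (inv_mem h)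
      rwa [show r * d * r⁻¹ * d⁻¹ = r * (d * r * d⁻¹)⁻¹ by group, hdr, inv_inv, ← pow_two] at h1
    have h2 : r ^ 2 = 1 := coprime_meet hp.out Nat.prime_two C.ne_two hPp (OT_isPGroup u')
      (pow_mem (hDP hrD) 2) hrr2
    exact hr1 (hsq_eq hrp (eq_inv_of_mul_eq_one_left (by rw [← pow_two]; exact h2)))
  obtain ⟨hU3, hU3c⟩ := hU2.extend (by rw [pow_two]; exact hdd)
    (comm_sup (comm_sup (fun a ha => by
      rcases mem_z C'.sq ha with e | e <;> rw [e]
      · simp
      · exact hdu.symm) hdt) hdt') (fun h => hdQ ((sup_le (sup_le (Subgroup.zpowers_le.mpr (self_mem_OT C'.sq))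
      (Subgroup.zpowers_le.mpr htQ)) (Subgroup.zpowers_le.mpr ht'Q)) h))
  rw [hU2c, hU1c, card_z C'.sq C'.ne_one] at hU3c
  have hKle : K ≤ F := inf_le_left.trans hHF
  obtain ⟨iK, hiK⟩ := (hF.mono hKle).exists_card
  have hKn : iK + 2 = n := Nat.pow_right_injective hp.out.two_le (by
    show p ^ (iK + 2) = p ^ n
    rw [pow_add, ← hiK, inf_card hF hHF hH'F hHc hH'c hHH', hFcard])
  have hcm : Cm K (Subgroup.zpowers u' ⊔ Subgroup.zpowers t ⊔ Subgroup.zpowers t' ⊔ Subgroup.zpowers d) := by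
    rw [cm_iff, Subgroup.le_centralizer_iff]
    have hcH : ∀ {g : G}, g ∈ ⁅OT u' ⊓ Subgroup.centralizer (H : Set G), F⁆ → ∀ k ∈ K, Commute k g :=
      fun hg k hk => Subgroup.mem_centralizer_iff.mp (hW' hHF hg).2 k hk.1
    have hcH' : ∀ {g : G}, g ∈ ⁅OT u' ⊓ Subgroup.centralizer (H : Set G), F⁆ → ∀ k ∈ K, Commute k (φ g) :=
      fun hg k hk => Subgroup.mem_centralizer_iff.mp (hW' hH'F (hmap _ hg)).2 k hk.2
    refine sup_le (sup_le (sup_le ?_ ?_) ?_) ?_ <;> rw [Subgroup.zpowers_le, Subgroup.mem_centralizer_iff] <;> intro k hk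
    · exact C'.cm k (hKle hk)
    · exact ((hcH hx k hk).mul_right (hcH' hx k hk)).eq
    · exact ((hcH hy0' k hk).mul_right (hcH' hy0' k hk)).eq
    · exact (hKc k hk).symm
  have := CfsgLib.PairRank.bound C.ne_two C.loc C.bound (j := 4) (hF.mono hKle) hU3 hcm hiK (by rw [hU3c]; norm_num)
    (by have := C.three; omega) (by norm_num)
  omega

end CfsgLib.PairRank
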